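import Cfsg.Agent.PSU3Sylow.Heis
import Cfsg.Agent.MinIndexPSU3.Pts
import Cfsg.Agent.S0283

/-!
A permutation group generated by the translations of the Heisenberg group and the map
`(x, d) ↦ (x / d, 1 / d)` is `PSU₃(q)`.
-/

set_option autoImplicit false
set_option linter.unusedSectionVars false

namespace Cfsg.Agent.RankOneClass.Recog

open AutPSU MinIndexPSU3 PSU3Sylow Matrix Classical.Herm

variable {E : Type*} [Field E] [CharP E 2] {σ : E →+* E} {q : ℕ} {hu : UCtx σ q}

theorem d_ne_zero {u : Heis hu} (h : u ≠ 1) : u.d ≠ 0 := fun hd => h <| by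
  have hc := u.cond
  rw [hd, map_zero, add_zero, eq_comm, mul_eq_zero, map_eq_zero, or_self] at hc
  exact Heis.ext hc hd

/-- The swap of the unital, away from the two base points. -/
def inversion (u : Heis hu) : Heis hu := ⟨u.x / u.d, 1 / u.d, by
  by_cases hd : u.d = 0
  · simp [hd]
  · have hs : σ u.d ≠ 0 := (map_ne_zero σ).2 hd
    rw [map_div₀, map_div₀, map_one]
    field_simp
    linear_combination u.cond⟩

@[simp] theorem inversion_x (u : Heis hu) : (inversion u).x = u.x / u.d := rfl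
@[simp] theorem inversion_d (u : Heis hu) : (inversion u).d = 1 / u.d := rfl

variable [Fintype E] (hu) {e m f : Vn 3 E} (h : Fr σ e m f)
include hu h

theorem adm_of (u : Heis hu) : Adm σ u.x u.d := by
  rw [Adm, u.cond, CharTwo.neg_eq, mul_comm]

/-- The translation by an element of the Heisenberg group. -/
noncomputable def phi : Heis hu →* Su 3 E q :=
  MonoidHom.mk' (fun u => uE hu e m u.x u.d) fun u v => by
    show _ = uE hu e m u.x u.d * uE hu e m v.x v.d
    rw [(h.uE_mul hu (adm_of hu h u) (adm_of hu h v)).2, CharTwo.sub_eq_add]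
    rfl

/-- The points in coordinates. -/
noncomputable def optPt : Option (Heis hu) → Pts hu
  | none => mkPt hu e h.hp.e_ne h.hp.ee
  | some u => phi hu h u • mkPt hu f h.hp.f_ne h.hp.ff

theorem phi_none (u : Heis hu) : phi hu h u • optPt hu h none = optPt hu h none := by
  show phi hu h u • mkPt hu e h.hp.e_ne h.hp.ee = mkPt hu e h.hp.e_ne h.hp.ee
  rw [smul_mkPt hu _ h.hp.e_ne h.hp.ee, mkPt_eq_iff hu]
  exact ⟨1, by rw [one_smul]; exact (h.uE_e hu (adm_of hu h u)).symm⟩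

theorem phi_some (u v : Heis hu) : phi hu h u • optPt hu h (some v) = optPt hu h (some (u * v)) := by
  show phi hu h u • phi hu h v • _ = phi hu h (u * v) • _
  rw [map_mul, mul_smul]

theorem mulVec_phi (u : Heis hu) : mat (phi hu h u) *ᵥ f = u.d • e + u.x • m + f :=
  h.uE_f hu (adm_of hu h u)

theorem coords (a b c : E) :
    hB 3 σ e (a • e + b • m + c • f) = c ∧ hB 3 σ f (a • e + b • m + c • f) = a ∧
      hB 3 σ m (a • e + b • m + c • f) = b := by
  obtain ⟨r1, r2, r3, r4, r5, r6, r7, r8, r9⟩ := h.relations hu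
  simp [r1, r2, r3, r4, r5, r6, r7, r8, r9]

theorem optPt_injective : Function.Injective (optPt hu h) := by
  have hne : mkPt hu e h.hp.e_ne h.hp.ee ≠ mkPt hu f h.hp.f_ne h.hp.ff := fun h0 => by
    obtain ⟨a, ha⟩ := (mkPt_eq_iff hu _ _ _ _).1 h0
    have h1 := congrArg (hB 3 σ f) ha
    rw [map_smul, h.hp.ff, smul_zero, h.hp.fe hu] at h1
    exact zero_ne_one h1
  have hzero : ∀ w : Heis hu, phi hu h w • mkPt hu f h.hp.f_ne h.hp.ff = mkPt hu f h.hp.f_ne h.hp.ff →
      w = 1 := by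
    intro w hw
    rw [smul_mkPt hu _ h.hp.f_ne h.hp.ff, mkPt_eq_iff hu] at hw
    obtain ⟨a, ha⟩ := hw
    rw [mulVec_phi hu h] at ha
    obtain ⟨k1, k2, k3⟩ := coords hu h w.d w.x 1
    rw [one_smul, ← ha] at k1 k2 k3
    obtain ⟨r1, r2, r3, r4, r5, r6, r7, r8, r9⟩ := h.relations hu
    rw [map_smul, r2, smul_zero] at k2
    rw [map_smul, r8, smul_zero] at k3
    exact Heis.ext k3.symm k2.symm
  rintro (_ | u) (_ | v) huv
  · rfl
  · exact absurd ((MulAction.injective (phi hu h v)) ((phi_none hu h v).trans huv)) hne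
  · exact absurd ((MulAction.injective (phi hu h u)) (huv.trans (phi_none hu h u).symm)).symm hne
  · have h1 := hzero (v⁻¹ * u) (by
      rw [map_mul, mul_smul, map_inv, inv_smul_eq_iff]; exact huv)
    rw [inv_mul_eq_one] at h1
    rw [h1]

theorem optPt_surjective : Function.Surjective (optPt hu h) := by
  intro P
  obtain ⟨v, hv0, hv, rfl⟩ := exists_mkPt hu P
  by_cases hP : ∃ a : E, v = a • e
  · obtain ⟨a, ha⟩ := hP
    exact ⟨none, ((mkPt_eq_iff hu hv0 hv h.hp.e_ne h.hp.ee).2 ⟨a, ha.symm⟩).symm⟩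
  · obtain ⟨s, hs, a, ha, hsf⟩ := h.other hu hv0 hv hP
    obtain ⟨hadm, hse⟩ := h.flag_coord hu hs
    refine ⟨some ⟨hB 3 σ m (mat s *ᵥ f), hB 3 σ f (mat s *ᵥ f), by
      rw [hadm, CharTwo.neg_eq, mul_comm]⟩, ?_⟩
    show uE hu e m (hB 3 σ m (mat s *ᵥ f)) (hB 3 σ f (mat s *ᵥ f)) • _ = _
    rw [← hse, smul_mkPt hu _ h.hp.f_ne h.hp.ff, mkPt_eq_iff hu]
    exact ⟨a, hsf.symm⟩

omit h in
/-- The swap. -/
noncomputable def jEl (_h : Fr σ e m f) : Su 3 E q := tr hu f 1 * tr hu e 1 * tr hu f 1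

theorem jEl_apply : mat (jEl hu h) *ᵥ e = f ∧ mat (jEl hu h) *ᵥ f = e ∧
    mat (jEl hu h) *ᵥ m = m := by
  obtain ⟨r1, r2, r3, r4, r5, r6, r7, r8, r9⟩ := h.relations hu
  have h1 : (1 : E) + σ 1 = 0 := by rw [map_one, CharTwo.add_self_eq_zero]
  refine ⟨?_, ?_, ?_⟩ <;>
    simp only [jEl, mat_mul_mulVec, tr_mulVec hu h.hp.ff h1, tr_mulVec hu h.hp.ee h1, map_add,
      r1, r2, r3, r4, r5, r6, one_mul, mul_one, mul_zero, zero_smul, one_smul, add_zero,
      zero_add]
  all_goals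
    funext i
    simp only [Pi.add_apply]
    ring_nf
    simp [CharTwo.two_eq_zero]

theorem jEl_none : jEl hu h • optPt hu h none = optPt hu h (some 1) := by
  show _ • mkPt hu e h.hp.e_ne h.hp.ee = phi hu h 1 • mkPt hu f h.hp.f_ne h.hp.ff
  rw [map_one, one_smul, smul_mkPt hu _ h.hp.e_ne h.hp.ee, mkPt_eq_iff hu]
  exact ⟨1, by rw [one_smul, (jEl_apply hu h).1]⟩

theorem jEl_one : jEl hu h • optPt hu h (some 1) = optPt hu h none := by
  show _ • phi hu h 1 • mkPt hu f h.hp.f_ne h.hp.ff = mkPt hu e h.hp.e_ne h.hp.ee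
  rw [map_one, one_smul, smul_mkPt hu _ h.hp.f_ne h.hp.ff, mkPt_eq_iff hu]
  exact ⟨1, by rw [one_smul, (jEl_apply hu h).2.1]⟩

theorem jEl_some {v : Heis hu} (hv : v ≠ 1) :
    jEl hu h • optPt hu h (some v) = optPt hu h (some (inversion v)) := by
  show _ • phi hu h v • _ = phi hu h (inversion v) • _
  rw [smul_mkPt hu (phi hu h v) h.hp.f_ne h.hp.ff, smul_mkPt hu (phi hu h (inversion v)) h.hp.f_ne h.hp.ff,
    smul_mkPt hu (jEl hu h), mkPt_eq_iff hu]
  refine ⟨v.d, ?_⟩
  obtain ⟨j1, j2, j3⟩ := jEl_apply hu h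
  have hd := d_ne_zero hv
  rw [mulVec_phi hu h, mulVec_phi hu h, inversion_x, inversion_d, Matrix.mulVec_add, Matrix.mulVec_add,
    Matrix.mulVec_smul, Matrix.mulVec_smul, j1, j2, j3, smul_add, smul_add, smul_smul, smul_smul,
    mul_one_div_cancel hd, mul_div_cancel₀ _ hd, one_smul]
  abel

omit h in
/-- The action on the points as permutations. -/
noncomputable def psi : Su 3 E q →* Equiv.Perm (Pts hu) :=
  MulAction.toPermHom (Su 3 E q) (Pts hu)

omit h in
theorem psi_apply (g : Su 3 E q) (P : Pts hu) : psi hu g P = g • P := rfl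

omit h in
theorem center_le_ker : Subgroup.center (Su 3 E q) ≤ (psi hu).ker := fun z hz => by
  rw [MonoidHom.mem_ker]
  refine Equiv.ext fun P => ?_
  obtain ⟨v, hv0, hv, rfl⟩ := exists_mkPt hu P
  obtain ⟨a, ha⟩ := center_scalar hu (by omega) hz
  show z • mkPt hu v hv0 hv = mkPt hu v hv0 hv
  rw [smul_mkPt hu z hv0 hv, mkPt_eq_iff hu]
  exact ⟨a, (ha v).symm⟩

theorem conj_range_phi {g : Su 3 E q} (hg : g • optPt hu h none = optPt hu h none) (u : Heis hu) :
    g * phi hu h u * g⁻¹ ∈ (phi hu h).range := by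
  have hg' : g ∈ lineStab (q := q) e := stabilizer_mkPt hu h.hp.e_ne h.hp.ee ▸ hg
  obtain ⟨l, hl⟩ := mem_lineStab.1 hg'
  obtain ⟨hl0, s, hs, k, hk, rfl⟩ := h.decomp hu hl
  obtain ⟨hadm, hse⟩ := h.flag_coord hu hs
  have hsr : s ∈ (phi hu h).range :=
    ⟨⟨_, _, by rw [hadm, CharTwo.neg_eq, mul_comm]⟩, hse.symm⟩
  obtain ⟨hadm', he⟩ := h.uE_conj hu hl0 hk (adm_of hu h u)
  have hkr : k * phi hu h u * k⁻¹ ∈ (phi hu h).range :=
    ⟨⟨_, _, by rw [hadm', CharTwo.neg_eq, mul_comm]⟩, he.symm⟩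
  rw [show s * k * phi hu h u * (s * k)⁻¹ = s * (k * phi hu h u * k⁻¹) * s⁻¹ by group]
  exact mul_mem (mul_mem hsr hkr) (inv_mem hsr)

/-- The subgroup generated by the translations and the swap. -/
noncomputable def genM : Subgroup (Su 3 E q) :=
  Subgroup.closure (Set.range (phi hu h) ∪ {jEl hu h})

theorem psi_range_le [IsSimpleGroup (Cfsg.PSU 3 E q)] :
    (psi hu).range ≤ (genM hu h).map (psi hu) := by
  have hphi : ∀ u, phi hu h u ∈ genM hu h := fun u => Subgroup.subset_closure (Or.inl ⟨u, rfl⟩)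
  have hJ : jEl hu h ∈ genM hu h := Subgroup.subset_closure (Or.inr rfl)
  have htr : ∀ P : Pts hu, ∃ k ∈ genM hu h, k • optPt hu h none = P := by
    intro P
    obtain ⟨o, rfl⟩ := optPt_surjective hu h P
    cases o with
    | none => exact ⟨1, one_mem _, one_smul _ _⟩
    | some u => exact ⟨phi hu h u * jEl hu h, mul_mem (hphi u) hJ, by
        rw [mul_smul, jEl_none, phi_some, mul_one]⟩
  have hnc : Subgroup.normalClosure (Set.range (phi hu h)) ≤ genM hu h := by
    refine (Subgroup.closure_le _).2 fun x hx => ?_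
    obtain ⟨_, ⟨u, rfl⟩, hxu⟩ := Group.mem_conjugatesOfSet_iff.1 hx
    obtain ⟨g, rfl⟩ := isConj_iff.1 hxu
    obtain ⟨k, hk, hke⟩ := htr (g • optPt hu h none)
    have hfix : (k⁻¹ * g) • optPt hu h none = optPt hu h none := by
      rw [mul_smul, ← hke, inv_smul_smul]
    obtain ⟨u', hu'⟩ := conj_range_phi hu h hfix u
    have e1 : g * phi hu h u * g⁻¹ = k * ((k⁻¹ * g) * phi hu h u * (k⁻¹ * g)⁻¹) * k⁻¹ := by group
    rw [SetLike.mem_coe, e1, ← hu']
    exact mul_mem (mul_mem hk (hphi u')) (inv_mem hk)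
  have htop : (Subgroup.normalClosure (Set.range (phi hu h))).map (mkU (n := 3)) = ⊤ := by
    have hn := Subgroup.Normal.map
      (Subgroup.normalClosure_normal (s := Set.range (phi hu h))) _
      (mkU_surjective (n := 3) (F := E) (q := q))
    refine hn.eq_bot_or_eq_top.resolve_left fun hbot => ?_
    obtain ⟨u, hx⟩ := Heis.exists_lift (hu := hu) (1 : E)
    have hc : phi hu h u ∈ Subgroup.center (Su 3 E q) := by
      rw [← mkU_eq_one_iff, ← Subgroup.mem_bot, ← hbot]
      exact ⟨_, Subgroup.subset_normalClosure ⟨u, rfl⟩, rfl⟩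
    have h1 := Equiv.congr_fun (MonoidHom.mem_ker.1 (center_le_ker hu hc)) (optPt hu h (some 1))
    rw [psi_apply, phi_some, mul_one, Equiv.Perm.coe_one, id_eq] at h1
    rw [Option.some.inj (optPt_injective hu h h1), Heis.one_x] at hx
    exact zero_ne_one hx
  rintro _ ⟨g, rfl⟩
  obtain ⟨k, hk, hkg⟩ : mkU g ∈ (Subgroup.normalClosure (Set.range (phi hu h))).map (mkU (n := 3)) :=
    htop ▸ Subgroup.mem_top _
  refine ⟨k, hnc hk, ?_⟩
  have hc : k⁻¹ * g ∈ Subgroup.center (Su 3 E q) := QuotientGroup.eq.1 hkg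
  have := MonoidHom.mem_ker.1 (center_le_ker hu hc)
  rwa [map_mul, map_inv, inv_mul_eq_one] at this

theorem psi_ker [IsSimpleGroup (Cfsg.PSU 3 E q)] : (psi hu).ker = Subgroup.center (Su 3 E q) := by
  refine le_antisymm (fun g hg => ?_) (center_le_ker hu)
  have hn := Subgroup.Normal.map ((psi hu).normal_ker) _ (mkU_surjective (n := 3) (F := E) (q := q))
  rcases hn.eq_bot_or_eq_top with hb | ht
  · rw [← mkU_eq_one_iff, ← Subgroup.mem_bot, ← hb]
    exact ⟨g, hg, rfl⟩
  · exfalso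
    obtain ⟨k, hk, hkJ⟩ : mkU (jEl hu h) ∈ (psi hu).ker.map (mkU (n := 3)) :=
      ht ▸ Subgroup.mem_top _
    have hJk : jEl hu h ∈ (psi hu).ker := by
      have := mul_mem hk (center_le_ker hu (QuotientGroup.eq.1 hkJ))
      rwa [mul_inv_cancel_left] at this
    have h1 := Equiv.congr_fun (MonoidHom.mem_ker.1 hJk) (optPt hu h none)
    rw [psi_apply, jEl_none, Equiv.Perm.coe_one, id_eq] at h1
    exact Option.some_ne_none _ (optPt_injective hu h h1)

omit h in
/-- Recognition of `PSU₃(q)` from the permutations of `q³ + 1` points. -/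
theorem psu_of_formula {G Ω : Type*} [Group G] [MulAction G Ω] [FaithfulSMul G Ω]
    (hq : 3 ≤ q) (π : Option (Heis hu) ≃ Ω) (T : Heis hu → G) (tau : G)
    (hTn : ∀ u, T u • π none = π none) (hTs : ∀ u v, T u • π (some v) = π (some (u * v)))
    (htn : tau • π none = π (some 1)) (ht1 : tau • π (some 1) = π none)
    (hts : ∀ v : Heis hu, v ≠ 1 → tau • π (some v) = π (some (inversion v))) :
    Nonempty (Subgroup.closure (Set.range T ∪ {tau}) ≃* Cfsg.PSU 3 E q) := by
  have hF : Fintype.card E = q ^ 2 := by rw [← Nat.card_eq_fintype_card, card_F hu]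
  have : IsSimpleGroup (Cfsg.PSU 3 E q) := S0283.result hF 3 le_rfl fun h0 => by omega
  obtain ⟨e, m, f, h⟩ := exists_frame_base hu
  let P : Ω ≃ Pts hu :=
    π.symm.trans (Equiv.ofBijective (optPt hu h) ⟨optPt_injective hu h, optPt_surjective hu h⟩)
  let Φ : G →* Equiv.Perm (Pts hu) := P.permCongrHom.toMonoidHom.comp (MulAction.toPermHom G Ω)
  have hP : ∀ o, P (π o) = optPt hu h o := fun o => by simp [P]; rfl
  have hΦ : ∀ (g : G) o o', g • π o = π o' → Φ g (optPt hu h o) = optPt hu h o' := fun g o o' hg => by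
    rw [← hP, ← hP]
    show P (g • P.symm (P (π o))) = P (π o')
    rw [P.symm_apply_apply, hg]
  have hinj : Function.Injective Φ :=
    P.permCongrHom.injective.comp MulAction.toPerm_injective
  have hT : ∀ u, Φ (T u) = psi hu (phi hu h u) := fun u => Equiv.ext fun x => by
    obtain ⟨o, rfl⟩ := optPt_surjective hu h x
    cases o with
    | none => rw [hΦ _ _ _ (hTn u), psi_apply, phi_none]
    | some v => rw [hΦ _ _ _ (hTs u v), psi_apply, phi_some]
  have htau : Φ tau = psi hu (jEl hu h) := Equiv.ext fun x => by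
    obtain ⟨o, rfl⟩ := optPt_surjective hu h x
    cases o with
    | none => rw [hΦ _ _ _ htn, psi_apply, jEl_none]
    | some v =>
      by_cases hv : v = 1
      · subst hv; rw [hΦ _ _ _ ht1, psi_apply, jEl_one]
      · rw [hΦ _ _ _ (hts v hv), psi_apply, jEl_some hu h hv]
  have himg : (Subgroup.closure (Set.range T ∪ {tau})).map Φ = (psi hu).range := by
    refine le_antisymm ?_ ((psi_range_le hu h).trans ?_)
    · rw [MonoidHom.map_closure, Subgroup.closure_le]
      rintro _ ⟨x, ⟨u, rfl⟩ | rfl, rfl⟩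
      · exact ⟨_, (hT u).symm⟩
      · exact ⟨_, htau.symm⟩
    · rw [genM, MonoidHom.map_closure, MonoidHom.map_closure]
      refine Subgroup.closure_mono ?_
      rintro _ ⟨x, ⟨u, rfl⟩ | rfl, rfl⟩
      · exact ⟨T u, Or.inl ⟨u, rfl⟩, hT u⟩
      · exact ⟨tau, Or.inr rfl, htau⟩
  exact ⟨(((Subgroup.equivMapOfInjective _ Φ hinj).trans (MulEquiv.subgroupCongr himg)).trans
    (QuotientGroup.quotientKerEquivRange (psi hu)).symm).trans
    (QuotientGroup.quotientMulEquivOfEq (psi_ker hu h))⟩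

end Cfsg.Agent.RankOneClass.Recog
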