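import Cfsg.Agent.RankOneClass.Base
import Cfsg.Agent.RankOneClass.Recog.Model

/-!
Coordinates on the points of a rank-one set-up of unitary type, and a normalisation in which `t` is
`c ↦ 1 / c` on the base line.
-/

set_option autoImplicit false
set_option linter.unusedSectionVars false

open Subgroup MulAction

namespace Cfsg.Agent.RankOneClass.Recog

open Cfsg.Agent.RankOne AutPSU PSU3Sylow

universe u v

variable {G : Type u} {Ω : Type v} [Group G] [Finite G] [MulAction G Ω] {a : Ω} {t : G} {Q : Subgroup G}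
  {E : Type} [Field E] [CharP E 2] {σ : E →+* E} {q : ℕ} {hu : UCtx σ q}

/-- The central element with parameter `c`, and `1` if `c` is not fixed. -/
noncomputable def zel (hu : UCtx σ q) (c : E) : Heis hu :=
  letI := Classical.propDecidable (σ c = c)
  if h : σ c = c then Heis.zc c h else 1

theorem zel_x (c : E) : (zel hu c).x = 0 := by
  unfold zel; split <;> rfl

theorem zel_d {c : E} (h : σ c = c) : (zel hu c).d = c := by
  simp [zel, h, Heis.zc]

theorem zel_zero : zel hu (0 : E) = 1 := Heis.ext (zel_x 0) (zel_d (map_zero σ))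

theorem eq_zel {u : Heis hu} (h : u.x = 0) : u = zel hu u.d ∧ σ u.d = u.d :=
  have h' := Heis.sigma_of_x_zero u h
  ⟨Heis.ext (by rw [h, zel_x]) (zel_d h').symm, h'⟩

theorem zel_mul {c : E} (hc : σ c = c) (u : Heis hu) :
    (zel hu c * u).x = u.x ∧ (zel hu c * u).d = c + u.d := by
  simp [zel_x, zel_d hc]

variable (hC : Ctx G Ω a t Q) (C : QCoord G a t Q hu)

/-- The group element with given coordinates. -/
noncomputable def elt (u : Heis hu) : G := ((C.toHeis.symm u : Q) : G)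

/-- The point with given coordinates. -/
noncomputable def pt (u : Heis hu) : Ω := elt C u • (t • a)

/-- The action of a scalar on coordinates. -/
def act (χ : E) (u : Heis hu) : Heis hu := ⟨χ * u.x, χ * σ χ * u.d, by
  rw [map_mul, map_mul, map_mul, hu.invol]
  linear_combination (χ * σ χ) * u.cond⟩

theorem elt_mem (u : Heis hu) : elt C u ∈ Q := (C.toHeis.symm u).2

theorem elt_mul (u v : Heis hu) : elt C (u * v) = elt C u * elt C v := by
  simp [elt, map_mul]

theorem elt_one : elt C (1 : Heis hu) = 1 := by simp [elt]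

theorem elt_inv (u : Heis hu) : elt C u⁻¹ = (elt C u)⁻¹ := by simp [elt]

theorem elt_toHeis (x : Q) : elt C (C.toHeis x) = (x : G) := by simp [elt]

theorem elt_inj {u v : Heis hu} (h : elt C u = elt C v) : u = v :=
  C.toHeis.symm.injective (Subtype.ext h)

theorem smul_pt (u v : Heis hu) : elt C u • pt C v = pt C (u * v) := by
  rw [pt, pt, elt_mul, mul_smul]

theorem pt_one : pt C (1 : Heis hu) = t • a := by rw [pt, elt_one, one_smul]

theorem pt_ne (hC : Ctx G Ω a t Q) (u : Heis hu) : pt C u ≠ a :=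
  Q_smul_ne hC.setup (elt_mem C u) (t_smul_ne hC.setup)

theorem pt_inj (hC : Ctx G Ω a t Q) {u v : Heis hu} (h : pt C u = pt C v) : u = v :=
  elt_inj C (Q_smul_inj hC.setup (elt_mem C u) (elt_mem C v) (t_smul_ne hC.setup) h)

theorem pt_surj (hC : Ctx G Ω a t Q) {p : Ω} (hp : p ≠ a) : ∃ u, pt C u = p := by
  obtain ⟨x, hx, rfl⟩ := exists_Q_smul hC.setup hp
  exact ⟨C.toHeis ⟨x, hx⟩, by rw [pt, elt_toHeis]⟩

theorem elt_mem_zGrp (hC : Ctx G Ω a t Q) (u : Heis hu) : elt C u ∈ zGrp G a ↔ u.x = 0 := by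
  rw [hC.mem_zGrp, ← Heis.mul_self_eq_one_iff, ← elt_mul]
  exact ⟨fun h => elt_inj C (h.2.trans (elt_one C).symm),
    fun h => ⟨hC.setup.le (elt_mem C u), by rw [h, elt_one]⟩⟩

theorem exists_zel (hC : Ctx G Ω a t Q) {z : G} (hz : z ∈ zGrp G a) :
    ∃ c : E, σ c = c ∧ z = elt C (zel hu c) := by
  have e : elt C (C.toHeis ⟨z, hC.zGrp_le hz⟩) = z := elt_toHeis C _
  obtain ⟨h1, h2⟩ := eq_zel ((elt_mem_zGrp C hC _).1 (e.symm ▸ hz))
  exact ⟨_, h2, e.symm.trans (congrArg (elt C) h1)⟩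

theorem zel_mem (hC : Ctx G Ω a t Q) (c : E) : elt C (zel hu c) ∈ zGrp G a :=
  (elt_mem_zGrp C hC _).2 (zel_x c)

theorem mem_twoPt_of_kw {d : G} (hd : d ∈ kGrp G a t ⊔ wGrp G a t) : d ∈ twoPt G a t :=
  (sup_le (Ctx.kGrp_le G a t) ((Ctx.wGrp_le G a t).trans (Ctx.vGrp_le G a t))) hd

include C in
theorem chi_one : C.chi 1 = 1 := by
  obtain ⟨k, hk, hk1⟩ := C.chi_K_surj 1 one_ne_zero (map_one σ)
  have h := C.chi_mul k (mem_sup_left hk) 1 (one_mem _)
  rw [mul_one, hk1, one_mul] at h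
  exact h.symm

theorem chi_ne_zero {d : G} (hd : d ∈ kGrp G a t ⊔ wGrp G a t) : C.chi d ≠ 0 := fun h => by
  have := C.chi_mul d hd d⁻¹ (inv_mem hd)
  rw [mul_inv_cancel, chi_one C, h, zero_mul] at this
  exact one_ne_zero this

theorem conj_elt (hC : Ctx G Ω a t Q) {d : G} (hd : d ∈ kGrp G a t ⊔ wGrp G a t) (u : Heis hu) :
    d * elt C u * d⁻¹ = elt C (act (C.chi d) u) := by
  have hm : d * elt C u * d⁻¹ ∈ Q :=
    conj_mem_Q hC.setup (twoPt_le (mem_twoPt_of_kw hd)) (elt_mem C u)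
  refine (elt_toHeis C ⟨_, hm⟩).symm.trans (congrArg (elt C) ?_)
  refine Heis.ext ?_ ?_
  · rw [C.conj_x d hd (C.toHeis.symm u) ⟨_, hm⟩ rfl, C.toHeis.apply_symm_apply]; rfl
  · rw [C.conj_d d hd (C.toHeis.symm u) ⟨_, hm⟩ rfl, C.toHeis.apply_symm_apply]; rfl

theorem kw_smul_pt (hC : Ctx G Ω a t Q) {d : G} (hd : d ∈ kGrp G a t ⊔ wGrp G a t) (u : Heis hu) :
    d • pt C u = pt C (act (C.chi d) u) := by
  rw [pt, pt, ← conj_elt C hC hd, mul_smul, mul_smul,
    inv_smul_eq_iff.2 (mem_twoPt.1 (mem_twoPt_of_kw hd)).2.symm]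

theorem act_zel {χ c : E} (hc : σ c = c) : act χ (zel hu c) = zel hu (χ * σ χ * c) := by
  have h : σ (χ * σ χ * c) = χ * σ χ * c := by rw [map_mul, map_mul, hu.invol, hc, mul_comm (σ χ)]
  refine Heis.ext ?_ ?_
  · simp [act, zel_x]
  · simp [act, zel_d hc, zel_d h]

theorem k_smul_zel (hC : Ctx G Ω a t Q) {k : G} (hk : k ∈ kGrp G a t) {c : E} (hc : σ c = c) :
    k • pt C (zel hu c) = pt C (zel hu (C.chi k * C.chi k * c)) := by
  rw [kw_smul_pt C hC (mem_sup_left hk), act_zel hc, C.chi_K k hk]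

/-- The square of every element of `K` is in the group generated by `Z` and `t`. -/
theorem kGrp_le_sig (hC : Ctx G Ω a t Q) (hlink : ∀ s r : G, IsLink G a t Q s r → r ∈ zGrp G a) :
    kGrp G a t ≤ sigGrp G a t := by
  intro k hk
  obtain ⟨s, r, hsr⟩ := hC.exists_link
  have hr := hlink s r hsr
  have hs : s ∈ zGrp G a := subset_closure hsr.1
  have ha : k ∈ stabilizer G a := twoPt_le (Ctx.kGrp_le G a t hk)
  have hs' : k⁻¹ * s * k ∈ zGrp G a := by simpa using hC.conj_mem_zGrp (inv_mem ha) hs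
  have hr' := hC.conj_mem_zGrp ha hr
  have hz : ∀ z ∈ zGrp G a, z ∈ sigGrp G a t := fun z hz => mem_sup_left hz
  have htS : t ∈ sigGrp G a t := mem_sup_right (subset_closure rfl)
  have htk : t * k = k⁻¹ * t := by
    rw [← hC.t_conj_kGrp hk, mul_assoc, hC.setup.mul_self, mul_one]
  have htk' : k * t = t * k⁻¹ := by
    calc k * t = t * (t * k) * t := by rw [← mul_assoc, hC.setup.mul_self, one_mul]
      _ = t * k⁻¹ := by rw [htk, mul_assoc, mul_assoc, hC.setup.mul_self, mul_one]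
  have e : t * (k⁻¹ * s * k) * t = (k * r * k⁻¹) * (k * k) * t * (k * r * k⁻¹) := by
    calc t * (k⁻¹ * s * k) * t = (t * k⁻¹) * s * (k * t) := by group
      _ = k * t * s * t * k⁻¹ := by rw [← htk', htk']; group
      _ = k * (t * s * t) * k⁻¹ := by group
      _ = k * r * t * r * k⁻¹ := by rw [hsr.2.2, hC.zGrp_inv hr]; group
      _ = k * r * k⁻¹ * (k * (t * k⁻¹)) * (k * r * k⁻¹) := by group
      _ = _ := by rw [← htk']; group
  have hk2 : k * k ∈ sigGrp G a t := by
    have e' : k * k = (k * r * k⁻¹)⁻¹ * (t * (k⁻¹ * s * k) * t) * (k * r * k⁻¹)⁻¹ * t⁻¹ := by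
      rw [e]; group
    rw [e']
    exact mul_mem (mul_mem (mul_mem (inv_mem (hz _ hr')) (mul_mem (mul_mem htS (hz _ hs')) htS))
      (inv_mem (hz _ hr'))) (inv_mem htS)
  obtain ⟨n, hn⟩ := hC.odd_kGrp
  have hpow : (k * k) ^ (n + 1) = k := by
    have h1 : k ^ Nat.card (kGrp G a t) = 1 :=
      congrArg Subtype.val (pow_card_eq_one' (x := (⟨k, hk⟩ : kGrp G a t)))
    rw [← pow_two, ← pow_mul, show 2 * (n + 1) = 2 * n + 1 + 1 by ring, pow_succ, ← hn, h1, one_mul]
  exact hpow ▸ pow_mem hk2 _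

/-- `t` is `c ↦ 1 / c` on the base line. -/
def Normed (C : QCoord G a t Q hu) : Prop :=
  ∀ c : E, σ c = c → c ≠ 0 → t • pt C (zel hu c) = pt C (zel hu c⁻¹)

theorem sq_bij [Finite E] : Function.Bijective (fun l : E => l * l) :=
  Finite.injective_iff_bijective.1 fun v w h => by
    refine sub_eq_zero.1 ((mul_self_eq_zero (a := v - w)).1 ?_)
    have h' : v * v = w * w := h
    linear_combination h' + (w * w - v * w) * (CharTwo.two_eq_zero : (2 : E) = 0)

include hu in
theorem exists_real_sqrt [Finite E] {c : E} (hc : σ c = c) : ∃ l : E, σ l = l ∧ l * l = c := by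
  obtain ⟨l, hl⟩ := (sq_bij (E := E)).2 c
  have hl' : l * l = c := hl
  exact ⟨l, sq_bij.1 (show σ l * σ l = l * l by rw [← map_mul, hl', hc]), hl'⟩

theorem exists_normed [Finite E] (hC : Ctx G Ω a t Q)
    (hlink : ∀ s r : G, IsLink G a t Q s r → r ∈ zGrp G a) (C : QCoord G a t Q hu) :
    ∃ C' : QCoord G a t Q hu, Normed C' := by
  obtain ⟨s, r, hsr⟩ := hC.exists_link
  have hs : s ∈ zGrp G a := subset_closure hsr.1
  have hr := hlink s r hsr
  obtain ⟨c₀, hc₀, rfl⟩ := exists_zel C hC hs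
  obtain ⟨c₁, hc₁, rfl⟩ := exists_zel C hC hr
  have hc₀0 : c₀ ≠ 0 := fun e => hsr.1.2.1 (by rw [e, zel_zero, elt_one])
  have hts : t • pt C (zel hu c₀) = pt C (zel hu c₁) := by
    calc t • pt C (zel hu c₀) = (t * elt C (zel hu c₀) * t) • a := by rw [pt, mul_smul, mul_smul]
      _ = _ := by
        rw [hsr.2.2, hC.zGrp_inv hr, mul_smul, mul_smul, smul_a_of_mem_Q hC.setup (elt_mem C _)]
        rfl
  have hc₁0 : c₁ ≠ 0 := fun e => by
    rw [e, zel_zero, pt_one] at hts
    exact pt_ne C hC _ (MulAction.injective t hts)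
  have hγ : ∀ c : E, σ c = c → c ≠ 0 → t • pt C (zel hu c) = pt C (zel hu (c₀ * c₁ / c)) := by
    intro c hc hc0
    obtain ⟨l, hl, hll⟩ := exists_real_sqrt (hu := hu) (c := c / c₀) (by rw [map_div₀, hc, hc₀])
    have hl0 : l ≠ 0 := fun e => div_ne_zero hc0 hc₀0 (by rw [← hll, e, mul_zero])
    obtain ⟨k, hk, hkl⟩ := C.chi_K_surj l hl0 hl
    have e1 : pt C (zel hu c) = k • pt C (zel hu c₀) := by
      rw [k_smul_zel C hC hk hc₀, hkl, hll, div_mul_cancel₀ _ hc₀0]
    have hinv : C.chi k⁻¹ = l⁻¹ := by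
      have h := C.chi_mul k (mem_sup_left hk) k⁻¹ (mem_sup_left (inv_mem hk))
      rw [mul_inv_cancel, chi_one C, hkl] at h
      exact eq_inv_of_mul_eq_one_right h.symm
    rw [e1, smul_smul,
      show t * k = k⁻¹ * t by rw [← hC.t_conj_kGrp hk, mul_assoc, hC.setup.mul_self, mul_one],
      mul_smul, hts, k_smul_zel C hC (inv_mem hk) hc₁, hinv]
    congr 2
    rw [← mul_inv, hll]; field_simp
  have hγr : σ (c₀ * c₁)⁻¹ = (c₀ * c₁)⁻¹ := by rw [map_inv₀, map_mul, hc₀, hc₁]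
  obtain ⟨l', hl', hll'⟩ := exists_real_sqrt (hu := hu) hγr
  obtain ⟨l, hl, hll⟩ := exists_real_sqrt (hu := hu) hl'
  have h4 : l * l * (l * l) * (c₀ * c₁) = 1 := by
    rw [hll, hll', inv_mul_cancel₀ (mul_ne_zero hc₀0 hc₁0)]
  have hl0 : l ≠ 0 := fun e => by simp [e] at h4
  let u : (Classical.Herm.fixField σ)ˣ := Units.mk0 ⟨l, hl⟩ fun e => hl0 (congrArg Subtype.val e)
  let S : MulAut (Heis hu) := Heis.scale u
  let C' : QCoord G a t Q hu :=
    { C with
      toHeis := C.toHeis.trans S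
      conj_x := fun d hd v v' h => by
        show l * _ = _ * (l * _)
        show l * (C.toHeis v').x = C.chi d * (l * (C.toHeis v).x)
        rw [C.conj_x d hd v v' h]; ring
      conj_d := fun d hd v v' h => by
        show l ^ 2 * _ = _ * (l ^ 2 * _)
        show l ^ 2 * (C.toHeis v').d = C.chi d * σ (C.chi d) * (l ^ 2 * (C.toHeis v).d)
        rw [C.conj_d d hd v v' h]; ring }
  have hpt : ∀ c : E, σ c = c → pt C' (zel hu c) = pt C (zel hu (c / (l * l))) := by
    intro c hc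
    have hc' : σ (c / (l * l)) = c / (l * l) := by rw [map_div₀, map_mul, hc, hl]
    have e : S (zel hu (c / (l * l))) = zel hu c := by
      refine Heis.ext ?_ ?_
      · show l * _ = _
        rw [zel_x, zel_x, mul_zero]
      · show l ^ 2 * _ = _
        rw [zel_d hc', zel_d hc]; field_simp
    show ((C'.toHeis.symm _ : Q) : G) • (t • a) = ((C.toHeis.symm _ : Q) : G) • (t • a)
    rw [show C'.toHeis.symm (zel hu c) = C.toHeis.symm (S.symm (zel hu c)) from rfl, ← e,
      MulEquiv.symm_apply_apply]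
  refine ⟨C', fun c hc hc0 => ?_⟩
  rw [hpt c hc, hpt c⁻¹ (by rw [map_inv₀, hc]),
    hγ _ (by rw [map_div₀, map_mul, hc, hl]) (div_ne_zero hc0 (mul_ne_zero hl0 hl0))]
  congr 2
  field_simp
  linear_combination h4

end Cfsg.Agent.RankOneClass.Recog
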