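import Cfsg.Agent.AutPSU.Basic

/-!
The functional equation of the inversion in a rank-one group of unitary type.
-/

set_option autoImplicit false

namespace Cfsg.Agent.RankOneClass.Recog

open AutPSU

variable {E : Type*} [Field E] [CharP E 2] [Finite E] {σ : E →+* E} {q : ℕ}

omit [Finite E] in
theorem eq_one_of_sq {v : E} (h : v * v = 1) : v = 1 := by
  refine sub_eq_zero.1 ((mul_self_eq_zero (a := v - 1)).1 ?_)
  linear_combination h + (1 - v) * (CharTwo.two_eq_zero : (2 : E) = 0)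

omit [Finite E] in
theorem sq_inj {v w : E} (h : v * v = w * w) : v = w := by
  refine sub_eq_zero.1 ((mul_self_eq_zero (a := v - w)).1 ?_)
  linear_combination h + (w * w - v * w) * (CharTwo.two_eq_zero : (2 : E) = 0)

omit [Finite E] in
theorem sigma_ne {v : E} (hv : v * σ v = 1) (h1 : v ≠ 1) : σ v ≠ v := fun e =>
  h1 (eq_one_of_sq (by rwa [e] at hv))

omit [Finite E] in
theorem lam_facts (hu : UCtx σ q) {v : E} (hv : v * σ v = 1) (h1 : v ≠ 1) :
    σ (v + σ v) = v + σ v ∧ v + σ v ≠ 0 ∧ 1 + v * v = (v + σ v) * v := by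
  refine ⟨by rw [map_add, hu.invol, add_comm], fun e => ?_, by linear_combination -hv⟩
  rw [CharTwo.add_eq_zero] at e
  exact sigma_ne hv h1 e.symm

theorem exists_sqrt (hu : UCtx σ q) (x : E) : ∃ l : E, σ l = l ∧ l * l = x * σ x := by
  have hbij : Function.Bijective (fun l : E => l * l) :=
    Finite.injective_iff_bijective.1 fun v w => sq_inj
  obtain ⟨l, hl⟩ := hbij.2 (x * σ x)
  refine ⟨l, sq_inj ?_, hl⟩
  have hl' : l * l = x * σ x := hl
  rw [← map_mul, hl', map_mul, hu.invol, mul_comm]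

/-- The equation forces the first coordinate to be linear. -/
theorem linear_of_eq (hu : UCtx σ q) {v₁ : E} (hv₁ : v₁ * σ v₁ = 1) (hv₁' : v₁ ≠ 1) (ν : E → E)
    (hK : ∀ l x : E, σ l = l → l ≠ 0 → x ≠ 0 → ν (l * x) = l * ν x)
    (hN : ∀ x : E, x ≠ 0 → ν x * σ (ν x) = x * σ x)
    (hEQ : ∀ x₀ : E, x₀ ≠ 0 → ∃ C, ∀ x : E, x ≠ x₀ → x * σ x = x₀ * σ x₀ →
      ν (x₀ + x) = C * σ x₀ * (x₀ + x)) :
    ∃ c : E, c * σ c = 1 ∧ ∀ x : E, x ≠ 0 → ν x = c * x := by
  have hline : ∀ x₀ : E, x₀ ≠ 0 → ∃ H, ∀ v : E, v * σ v = 1 → v ≠ 1 →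
      ν (v * x₀) = H * (v * x₀) := by
    intro x₀ hx₀
    obtain ⟨C, hC⟩ := hEQ x₀ hx₀
    refine ⟨C * σ x₀, fun v hv h1 => ?_⟩
    obtain ⟨hl, hl0, hlv⟩ := lam_facts hu hv h1
    have hv0 : v ≠ 0 := fun e => by simp [e] at hv
    have hne : v * v * x₀ ≠ x₀ := fun e =>
      h1 (eq_one_of_sq (mul_right_cancel₀ hx₀ (e.trans (one_mul x₀).symm)))
    have hnorm : v * v * x₀ * σ (v * v * x₀) = x₀ * σ x₀ := by
      rw [map_mul, map_mul]
      linear_combination (x₀ * σ x₀ * (v * σ v + 1)) * hv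
    have h := hC _ hne hnorm
    rw [show x₀ + v * v * x₀ = (v + σ v) * (v * x₀) by linear_combination x₀ * hlv,
      hK _ _ hl hl0 (mul_ne_zero hv0 hx₀)] at h
    refine mul_left_cancel₀ hl0 (h.trans ?_)
    ring
  obtain ⟨H, hH⟩ := hline 1 one_ne_zero
  have hv0 : v₁ ≠ 0 := fun e => by simp [e] at hv₁
  obtain ⟨H', hH'⟩ := hline v₁ hv0
  have hs : σ v₁ * σ (σ v₁) = 1 := by rw [hu.invol, mul_comm]; exact hv₁
  have hs1 : σ v₁ ≠ 1 := fun e => hv₁' (σ.injective (e.trans (map_one σ).symm))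
  have hc1 : ν 1 = H' := by
    have h := hH' (σ v₁) hs hs1
    rwa [mul_comm (σ v₁) v₁, hv₁, mul_one] at h
  have hHH : H' = H := by
    have ha := hH (σ v₁) hs hs1
    rw [mul_one] at ha
    have hw : σ v₁ * σ v₁ * σ (σ v₁ * σ v₁) = 1 := by
      rw [map_mul, hu.invol]; linear_combination (v₁ * σ v₁ + 1) * hv₁
    have hb := hH' (σ v₁ * σ v₁) hw fun e => hs1 (eq_one_of_sq e)
    rw [show σ v₁ * σ v₁ * v₁ = σ v₁ by linear_combination σ v₁ * hv₁, ha] at hb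
    exact (mul_right_cancel₀ ((map_ne_zero σ).2 hv0) hb).symm
  refine ⟨H, ?_, fun x hx => ?_⟩
  · rw [← hHH, ← hc1]
    simpa using hN 1 one_ne_zero
  · obtain ⟨l, hl, hll⟩ := exists_sqrt hu x
    have hl0 : l ≠ 0 := fun e => mul_ne_zero hx ((map_ne_zero σ).2 hx) (by rw [← hll, e, mul_zero])
    have hv : x / l * σ (x / l) = 1 := by
      rw [map_div₀, hl]; field_simp; linear_combination -hll
    have e : x = l * (x / l) := by field_simp
    have hval : ν (x / l) = H * (x / l) := by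
      by_cases h1 : x / l = 1
      · rw [h1, hc1, hHH, mul_one]
      · simpa using hH _ hv h1
    conv_lhs => rw [e, hK l _ hl hl0 (div_ne_zero hx hl0), hval]
    field_simp

/-- The solutions of the equation: the identity and its conjugate. -/
theorem solve (hu : UCtx σ q) (U : Set E) (hUN : ∀ w ∈ U, w * σ w = 1)
    (hUmul : ∀ v ∈ U, ∀ w ∈ U, v * w ∈ U) (hUinv : ∀ w ∈ U, σ w ∈ U) (hU : ∃ w ∈ U, w ≠ 1)
    (μ : E → E) (hμmul : ∀ v ∈ U, ∀ w ∈ U, μ (v * w) = μ v * μ w)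
    (hμ0 : ∀ w ∈ U, μ w ≠ 0)
    (ν g : E → E)
    (hνK : ∀ l x : E, σ l = l → l ≠ 0 → x ≠ 0 → ν (l * x) = l * ν x)
    (hgK : ∀ l x : E, σ l = l → l ≠ 0 → x ≠ 0 → g (l * x) = l * l * g x)
    (hνW : ∀ w ∈ U, ∀ x : E, x ≠ 0 → ν (w * x) = μ w * ν x)
    (hgW : ∀ w ∈ U, ∀ x : E, x ≠ 0 → g (w * x) = g x)
    (hν0 : ∀ x : E, x ≠ 0 → ν x ≠ 0)
    (htr : ∀ x : E, x ≠ 0 → g x + σ (g x) = ν x * σ (ν x) + x * σ x)
    (hEQ : ∀ x₀ : E, x₀ ≠ 0 → ∃ C, ∀ x : E, x ≠ 0 → x ≠ x₀ → ν x * σ (ν x) = ν x₀ * σ (ν x₀) →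
      ν (x₀ + x) = C * (x₀ * σ x₀ + σ x₀ * x + g x + g x₀ + g (x₀ + x))) :
    (∃ c : E, c * σ c = 1 ∧ ∀ x : E, x ≠ 0 → g x = 0 ∧ ν x = c * x) ∨
      (∃ c : E, c * σ c = 1 ∧ ∀ x : E, x ≠ 0 → g x = x * σ x ∧ σ (ν x) = c * x) := by
  obtain ⟨u, hu', hu1⟩ := hU
  have hμN : ∀ w ∈ U, μ w * μ (σ w) = 1 := by
    intro w hw
    have h1 : (1 : E) ∈ U := hUN w hw ▸ hUmul w hw (σ w) (hUinv w hw)
    have h11 : μ 1 = 1 := mul_right_cancel₀ (hμ0 1 h1) (by rw [← hμmul 1 h1 1 h1, mul_one, one_mul])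
    rw [← hμmul w hw _ (hUinv w hw), hUN w hw, h11]
  -- the value of μ seen from a base point
  have hbase : ∀ x₀ : E, x₀ ≠ 0 →
      (g x₀ = 0 ∧ ∀ v ∈ U, v ≠ 1 → μ v = v) ∨
        (g x₀ = x₀ * σ x₀ ∧ ∀ v ∈ U, v ≠ 1 → μ v = σ v) := by
    intro x₀ hx₀
    obtain ⟨C, hC⟩ := hEQ x₀ hx₀
    have hn0 : x₀ * σ x₀ ≠ 0 := mul_ne_zero hx₀ ((map_ne_zero σ).2 hx₀)
    set κ : E := C * (x₀ * σ x₀) / ν x₀ with hκ
    set δ : E := g x₀ / (x₀ * σ x₀) with hδ
    have hform : ∀ v ∈ U, v ≠ 1 → μ v = κ * (1 + δ) * v + κ * δ * σ v := by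
      intro v hv h1
      obtain ⟨hl, hl0, hlv⟩ := lam_facts hu (hUN v hv) h1
      have hv0 : v ≠ 0 := fun e => by simpa [e] using hUN v hv
      have hw : v * v ∈ U := hUmul v hv v hv
      have hx : v * v * x₀ ≠ 0 := mul_ne_zero (mul_ne_zero hv0 hv0) hx₀
      have hne : v * v * x₀ ≠ x₀ := fun e =>
        h1 (eq_one_of_sq (mul_right_cancel₀ hx₀ (e.trans (one_mul x₀).symm)))
      have hσv : v * σ v = 1 := hUN v hv
      have hNν : ν (v * v * x₀) * σ (ν (v * v * x₀)) = ν x₀ * σ (ν x₀) := by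
        have h2 := htr _ hx
        have h3 := htr _ hx₀
        rw [hgW _ hw x₀ hx₀] at h2
        have h4 : v * v * x₀ * σ (v * v * x₀) = x₀ * σ x₀ := by
          rw [map_mul, map_mul]
          linear_combination (x₀ * σ x₀ * (v * σ v + 1)) * hσv
        linear_combination h3 - h2 - h4
      have h := hC _ hx hne hNν
      rw [hgW _ hw x₀ hx₀, show x₀ + v * v * x₀ = (v + σ v) * (v * x₀) by linear_combination x₀ * hlv,
        hνK _ _ hl hl0 (mul_ne_zero hv0 hx₀), hgK _ _ hl hl0 (mul_ne_zero hv0 hx₀),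
        hνW v hv x₀ hx₀, hgW v hv x₀ hx₀] at h
      have hg : g x₀ = δ * (x₀ * σ x₀) := (div_mul_cancel₀ _ hn0).symm
      have hC' : C * (x₀ * σ x₀) = κ * ν x₀ := (div_mul_cancel₀ _ (hν0 _ hx₀)).symm
      refine mul_left_cancel₀ hl0 (mul_right_cancel₀ (hν0 _ hx₀) ?_)
      rw [hg] at h
      linear_combination h + ((v + σ v) * v + (v + σ v) * (v + σ v) * δ) * hC' +
        (C * (x₀ * σ x₀)) * hlv + (C * δ * x₀ * σ x₀) * (CharTwo.two_eq_zero : (2 : E) = 0)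
    set A : E := κ * (1 + δ) with hA
    set B : E := κ * δ with hB
    have hsq : ∀ v ∈ U, v ≠ 1 → (A * A + A) * (v * v * (v * v)) = B * B + B := by
      intro v hv h1
      have hw : v * v ∈ U := hUmul v hv v hv
      have e1 := hform _ hw fun e => h1 (eq_one_of_sq e)
      rw [hμmul v hv v hv, hform v hv h1, map_mul] at e1
      have hσv : v * σ v = 1 := hUN v hv
      linear_combination (v * v) * e1 - (2 * A * B * v * v + (B * B - B) * (v * σ v + 1)) * hσv +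
        (A * v * v * v * v - A * B * v * v - B * B) * (CharTwo.two_eq_zero : (2 : E) = 0)
    have hAA : A * A + A = 0 := by
      by_contra hne
      have e := (hsq u hu' hu1).trans (hsq (σ u) (hUinv u hu') fun e =>
        hu1 (σ.injective (e.trans (map_one σ).symm))).symm
      exact sigma_ne (hUN u hu') hu1 (sq_inj (sq_inj (mul_left_cancel₀ hne e))).symm
    have hBB : B * B + B = 0 := by
      have e := hsq u hu' hu1
      rw [hAA, zero_mul] at e
      exact e.symm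
    have hAB : A + B = κ := by
      rw [hA, hB]; linear_combination (κ * δ) * (CharTwo.two_eq_zero : (2 : E) = 0)
    have hκ0 : κ ≠ 0 := fun e => by
      have := hform u hu' hu1
      rw [hA, hB, e] at this
      exact hμ0 u hu' (by simpa using this)
    have h01 : ∀ X : E, X * X + X = 0 → X = 0 ∨ X = 1 := fun X hX => by
      by_cases h0 : X = 0
      · exact Or.inl h0
      · refine Or.inr (CharTwo.add_eq_zero.1 (mul_left_cancel₀ h0 ?_))
        linear_combination hX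
    have hg : g x₀ = δ * (x₀ * σ x₀) := (div_mul_cancel₀ _ hn0).symm
    rcases h01 A hAA with hA0 | hA1 <;> rcases h01 B hBB with hB0 | hB1
    · exact absurd (by rw [← hAB, hA0, hB0, add_zero]) hκ0
    · refine Or.inr ⟨?_, fun v hv h1 => ?_⟩
      · have : κ = 1 := by rw [← hAB, hA0, hB1, zero_add]
        rw [hB, this, one_mul] at hB1
        rw [hg, hB1, one_mul]
      · rw [hform v hv h1, hA0, hB1, zero_mul, zero_add, one_mul]
    · refine Or.inl ⟨?_, fun v hv h1 => ?_⟩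
      · have : κ = 1 := by rw [← hAB, hA1, hB0, add_zero]
        rw [hB, this, one_mul] at hB0
        rw [hg, hB0, zero_mul]
      · rw [hform v hv h1, hA1, hB0, zero_mul, add_zero, one_mul]
    · exact absurd (by rw [← hAB, hA1, hB1, CharTwo.add_self_eq_zero]) hκ0
  have hv₁ := hUN u hu'
  rcases hbase 1 one_ne_zero with ⟨-, hid⟩ | ⟨-, hconj⟩
  · have hg : ∀ x : E, x ≠ 0 → g x = 0 := fun x hx => by
      rcases hbase x hx with ⟨h, -⟩ | ⟨-, h⟩
      · exact h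
      · exact absurd ((h u hu' hu1).symm.trans (hid u hu' hu1)) (sigma_ne hv₁ hu1)
    have hN : ∀ x : E, x ≠ 0 → ν x * σ (ν x) = x * σ x := fun x hx => by
      have h := htr x hx
      rw [hg x hx, map_zero, add_zero, eq_comm, CharTwo.add_eq_zero] at h
      exact h
    obtain ⟨c, hc, hc'⟩ := linear_of_eq hu hv₁ hu1 ν hνK hN fun x₀ hx₀ => by
      obtain ⟨C, hC⟩ := hEQ x₀ hx₀
      refine ⟨C, fun x hne hn => ?_⟩
      have hx : x ≠ 0 := fun e => mul_ne_zero hx₀ ((map_ne_zero σ).2 hx₀) (by simp [← hn, e])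
      have hs : x₀ + x ≠ 0 := fun e => hne (CharTwo.add_eq_zero.1 e).symm
      rw [hC x hx hne (by rw [hN x hx, hN x₀ hx₀, hn]), hg x hx, hg x₀ hx₀, hg _ hs]
      ring
    exact Or.inl ⟨c, hc, fun x hx => ⟨hg x hx, hc' x hx⟩⟩
  · have hg : ∀ x : E, x ≠ 0 → g x = x * σ x := fun x hx => by
      rcases hbase x hx with ⟨-, h⟩ | ⟨h, -⟩
      · exact absurd ((hconj u hu' hu1).symm.trans (h u hu' hu1)) (sigma_ne hv₁ hu1)
      · exact h
    have hN : ∀ x : E, x ≠ 0 → ν x * σ (ν x) = x * σ x := fun x hx => by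
      have h := htr x hx
      rw [hg x hx, map_mul, hu.invol] at h
      linear_combination -h
    obtain ⟨c, hc, hc'⟩ := linear_of_eq hu hv₁ hu1 (fun x => σ (ν x))
      (fun l x hl hl0 hx => by rw [hνK l x hl hl0 hx, map_mul, hl])
      (fun x hx => by rw [hu.invol, mul_comm, hN x hx]) fun x₀ hx₀ => by
      obtain ⟨C, hC⟩ := hEQ x₀ hx₀
      refine ⟨σ C, fun x hne hn => ?_⟩
      have hx : x ≠ 0 := fun e => mul_ne_zero hx₀ ((map_ne_zero σ).2 hx₀) (by simp [← hn, e])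
      have hs : x₀ + x ≠ 0 := fun e => hne (CharTwo.add_eq_zero.1 e).symm
      show σ (ν (x₀ + x)) = _
      rw [hC x hx hne (by rw [hN x hx, hN x₀ hx₀, hn]), hg x hx, hg x₀ hx₀, hg _ hs]
      simp only [map_mul, map_add, hu.invol]
      linear_combination σ C * (σ x₀ * x₀ + x * σ x + x₀ * σ x) * (CharTwo.two_eq_zero : (2 : E) = 0)
    exact Or.inr ⟨c, hc, fun x hx => ⟨hg x hx, hc' x hx⟩⟩

end Cfsg.Agent.RankOneClass.Recog
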