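import Cfsg.Agent.RankOneClass.Recog.Line

/-!
A base point off the base line, the cyclic group through it and its eigenvector.
-/

set_option autoImplicit false
set_option linter.unusedSectionVars false

open Subgroup MulAction
open scoped Pointwise

namespace Cfsg.Agent.RankOneClass.Recog

open Cfsg.Agent.RankOne AutPSU PSU3Sylow

universe u v

/-- A multiple of a vector. -/
def sc {E : Type} [Field E] (ζ : E) (v : E × E) : E × E := (ζ * v.1, ζ * v.2)

theorem M2.app_sc {E : Type} [Field E] (M : M2 E) (ζ : E) (v : E × E) :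
    M.app (sc ζ v) = sc ζ (M.app v) := by
  ext <;> simp [M2.app, sc] <;> ring

theorem sc_sc {E : Type} [Field E] (x y : E) (v : E × E) : sc x (sc y v) = sc (x * y) v := by
  ext <;> simp [sc] <;> ring

section

variable {E : Type} [Field E] [CharP E 2] [Fintype E] {σ : E →+* E} {q : ℕ}

theorem ncard_norm_one (hu : UCtx σ q) : {ζ : E | ζ * σ ζ = 1}.ncard ≤ q + 1 := by
  classical
  have hsub : {ζ : E | ζ * σ ζ = 1} ⊆ ((Polynomial.nthRoots (q + 1) (1 : E)).toFinset : Set E) := by
    intro ζ hζ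
    rw [Finset.mem_coe, Multiset.mem_toFinset, Polynomial.mem_nthRoots (Nat.succ_pos q), pow_succ,
      ← hu.pow, mul_comm]
    exact hζ
  refine (Set.ncard_le_ncard hsub (Finset.finite_toSet _)).trans ?_
  rw [Set.ncard_coe_finset]
  exact (Multiset.toFinset_card_le _).trans (Polynomial.card_nthRoots _ _)

/-- A real matrix of determinant one with a real eigenvalue has order dividing `q - 1` or two. -/
theorem app_iterate_eq (hu : UCtx σ q) {M : M2 E} (hM : M.Good σ) {lam : E}
    (hroot : lam * lam + (M.a + M.d) * lam + 1 = 0) (hreal : σ lam = lam) (v : E × E) :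
    M.app^[2 * (q - 1)] v = v := by
  have h2 : (2 : E) = 0 := CharTwo.two_eq_zero
  have hl0 : lam ≠ 0 := fun e => by simp [e] at hroot
  set mu : E := lam + (M.a + M.d) with hmu
  have hmur : σ mu = mu := by rw [hmu, map_add, map_add, hreal, hM.ha, hM.hd]
  have hlm : lam * mu = 1 := by rw [hmu]; linear_combination hroot - h2
  have hCH : ∀ v : E × E, M.app (M.app v) = sc (M.a + M.d) (M.app v) + v := fun v => by
    ext <;> simp only [M2.app, sc, Prod.fst_add, Prod.snd_add]
    · linear_combination v.1 * hM.det - (M.a * M.d) * v.1 * h2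
    · linear_combination v.2 * hM.det - (M.a * M.d) * v.2 * h2
  by_cases htr : M.a + M.d = 0
  · have h : ∀ w, M.app (M.app w) = w := fun w => by
      rw [hCH w, htr]; simp [sc, Prod.mk_zero_zero]
    induction (q - 1) with
    | zero => rfl
    | succ n ih =>
      rw [show 2 * (n + 1) = 2 + 2 * n by ring, Function.iterate_add_apply, ih]
      exact h v
  have hP : ∀ x y : E, x + y = M.a + M.d → x * y = 1 → ∀ (n : ℕ) (v : E × E),
      M.app^[n] (M.app v + sc y v) = sc (x ^ n) (M.app v + sc y v) := by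
    intro x y hxy hxy1 n v
    have hstep : M.app (M.app v + sc y v) = sc x (M.app v + sc y v) := by
      have e : M.app (M.app v + sc y v) = M.app (M.app v) + M.app (sc y v) := by
        ext <;> simp [M2.app] <;> ring
      rw [e, hCH, M2.app_sc, ← hxy]
      ext <;> simp only [sc, Prod.fst_add, Prod.snd_add]
      · linear_combination -v.1 * hxy1 + y * (M.app v).1 * h2
      · linear_combination -v.2 * hxy1 + y * (M.app v).2 * h2
    induction n with
    | zero => ext <;> simp [sc]
    | succ n ih => rw [Function.iterate_succ_apply', ih, M2.app_sc, hstep, sc_sc, pow_succ]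
  have hpow : ∀ x : E, σ x = x → x ≠ 0 → x ^ (2 * (q - 1)) = 1 := by
    intro x hx hx0
    have h : x ^ (q - 1) = 1 := by
      refine mul_left_cancel₀ hx0 ?_
      rw [← pow_succ', Nat.sub_add_cancel hu.one_lt.le, ← hu.pow, hx, mul_one]
    rw [mul_comm, pow_mul, h, one_pow]
  have hmu0 : mu ≠ 0 := fun e => by simp [e] at hlm
  have k1 := hP lam mu (by rw [hmu]; linear_combination lam * h2) hlm (2 * (q - 1)) v
  have k2 := hP mu lam (by rw [hmu]; linear_combination lam * h2) (by rw [mul_comm]; exact hlm)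
    (2 * (q - 1)) v
  rw [hpow _ hreal hl0] at k1
  rw [hpow _ hmur hmu0] at k2
  have hlin : ∀ (n : ℕ) (u w : E × E), M.app^[n] (u + w) = M.app^[n] u + M.app^[n] w := by
    intro n u w
    induction n with
    | zero => rfl
    | succ n ih =>
      simp only [Function.iterate_succ_apply', ih]
      ext <;> simp [M2.app] <;> ring
  have hsc : ∀ (n : ℕ) (x : E) (w : E × E), M.app^[n] (sc x w) = sc x (M.app^[n] w) := by
    intro n x w
    induction n with
    | zero => rfl
    | succ n ih => simp only [Function.iterate_succ_apply', ih, M2.app_sc]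
  have hsum : sc (M.a + M.d) v = (M.app v + sc mu v) + (M.app v + sc lam v) := by
    ext <;> simp only [sc, hmu, Prod.fst_add, Prod.snd_add]
    · linear_combination -((M.app v).1 + lam * v.1) * h2
    · linear_combination -((M.app v).2 + lam * v.2) * h2
  have k3 : sc (M.a + M.d) (M.app^[2 * (q - 1)] v) = sc (M.a + M.d) v := by
    rw [← hsc, hsum, hlin, k1, k2]; ext <;> simp [sc]
  exact Prod.ext (mul_left_cancel₀ htr (congrArg Prod.fst k3)) (mul_left_cancel₀ htr (congrArg Prod.snd k3))

end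

variable {G : Type u} {Ω : Type v} [Group G] [Finite G] [MulAction G Ω] {a : Ω} {t : G} {Q : Subgroup G}
  {E : Type} [Field E] [CharP E 2] [Fintype E] {σ : E →+* E} {q : ℕ} {hu : UCtx σ q}
  (C : QCoord G a t Q hu)

/-- A base point with a cyclic group and an eigenvector. -/
structure Base0 where
  p0 : Ω
  T : Subgroup G
  v0 : E × E
  off : p0 ∉ line0 G a t
  le : T ≤ sigGrp G a t
  form_v0 : M2.form σ v0 = 1
  line : ∃ g : G, g • line0 G a t = (fun c => c • p0) '' (T : Set G)
  wmem : ∀ w ∈ wGrp G a t, ∃ g ∈ T, g • p0 = w • p0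
  eig : ∀ g ∈ T, ∃ M, Ind C g M ∧ ∃ ζ, ζ * σ ζ = 1 ∧ M.app v0 = sc ζ v0
  circ : ∀ ζ : E, ζ * σ ζ = 1 → ∃ g ∈ T, ∃ M, Ind C g M ∧ M.app v0 = sc ζ v0

theorem mem_line0_iff (hC : Ctx G Ω a t Q) (u : Heis hu) : pt C u ∈ line0 G a t ↔ u.x = 0 := by
  constructor
  · rintro (h | ⟨z, hz, h⟩)
    · exact absurd h (pt_ne C hC u)
    · obtain ⟨c, -, rfl⟩ := exists_zel C hC hz
      rw [← pt_inj C hC h]
      exact zel_x c
  · intro h
    refine Or.inr ⟨_, (elt_mem_zGrp C hC u).2 h, rfl⟩

theorem exists_base0 (hC : Ctx G Ω a t Q) (hL : Lines G a t Q) (hN : Normed C) :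
    Nonempty (Base0 C) := by
  classical
  have h2 : (2 : E) = 0 := CharTwo.two_eq_zero
  obtain ⟨u1, hu1⟩ := Heis.exists_lift (hu := hu) (1 : E)
  have hoff : pt C u1 ∉ line0 G a t := fun h => by
    rw [mem_line0_iff C hC, hu1] at h
    exact one_ne_zero h
  obtain ⟨T, hTS, hTcy, hTcard, hTw, hTline⟩ := hL.torus _ hoff
  obtain ⟨⟨τ, hτ⟩, hgen⟩ := hTcy.exists_generator
  obtain ⟨M, hM⟩ := exists_ind C hC hN (hTS hτ)
  have hpowInd : ∀ n : ℕ, ∃ N, Ind C (τ ^ n) N ∧ ∀ v, N.app v = M.app^[n] v := by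
    intro n
    induction n with
    | zero => exact ⟨M2.one, by rw [pow_zero]; exact ind_one C, fun v => M2.app_one v⟩
    | succ n ih =>
      obtain ⟨N, hN', hv⟩ := ih
      exact ⟨M.comp N, by rw [pow_succ']; exact hM.mul C hN', fun v => by
        rw [M2.app_comp, hv, Function.iterate_succ_apply']⟩
  have hord : orderOf τ = q + 1 := by
    have h := orderOf_eq_card_of_forall_mem_zpowers hgen
    rw [hTcard, ← C.q_eq, ← Subgroup.orderOf_coe] at h
    exact h
  obtain ⟨lam, hroot⟩ := MinIndexPSU3.exists_root_fixed hu (A := (1 : E)) (B := M.a + M.d) (C := 1)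
    one_ne_zero (map_one σ) (by rw [map_add, hM.1.ha, hM.1.hd]) (map_one σ)
  rw [one_mul, pow_two] at hroot
  have hreal : σ lam ≠ lam := by
    intro hr
    obtain ⟨N, hN', hv⟩ := hpowInd (2 * (q - 1))
    have hv' : ∀ v, N.app v = v := fun v => (hv v).trans (app_iterate_eq hu hM.1 hroot hr v)
    have hN1 : N = M2.one := by
      have e1 := hv' (1, 0)
      have e2 := hv' (0, 1)
      simp [M2.app] at e1 e2
      exact M2.ext e1.1 e2.1 e1.2 e2.2
    have hτ1 := Ind.inj C hC hL (pow_mem (hTS hτ) _) (hN1 ▸ hN')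
    have hdvd := orderOf_dvd_of_pow_eq_one hτ1
    rw [hord] at hdvd
    have hodd : Odd (q + 1) := by
      obtain ⟨f, hf, e⟩ := hC.exists_qq_pow
      rw [C.q_eq, e]
      exact (Nat.even_pow.2 ⟨even_two, by omega⟩).add_one
    have hd : q + 1 ∣ q - 1 := ((Nat.coprime_two_right.2 hodd)).dvd_of_dvd_mul_left hdvd
    have := Nat.le_of_dvd (by have := hu.one_lt; omega) hd
    omega
  have hc : M.c ≠ 0 := fun hc => by
    have hdet := hM.1.det
    rw [hc, mul_zero, add_zero] at hdet
    have h : (lam + M.a) * (lam + M.d) = 0 := by linear_combination hroot + hdet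
    rcases mul_eq_zero.1 h with h | h <;> rw [CharTwo.add_eq_zero] at h
    · exact hreal (by rw [h, hM.1.ha])
    · exact hreal (by rw [h, hM.1.hd])
  have hsl : lam * σ lam = 1 := by
    have hs := congrArg σ hroot
    simp only [map_add, map_mul, map_one, map_zero, hM.1.ha, hM.1.hd] at hs
    have h : (lam - σ lam) * (lam + σ lam + (M.a + M.d)) = 0 := by linear_combination hroot - hs
    have e := (mul_eq_zero.1 h).resolve_left fun e => hreal (sub_eq_zero.1 e).symm
    linear_combination lam * e - hroot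
  have hh : M2.form σ (lam + M.d, M.c) = M.c * (lam + σ lam) := by
    simp only [M2.form, map_add, hM.1.hd, hM.1.hc]
    linear_combination M.c * M.d * h2
  have hh0 : M2.form σ (lam + M.d, M.c) ≠ 0 := by
    rw [hh]
    exact mul_ne_zero hc fun e => hreal (CharTwo.add_eq_zero.1 e).symm
  set h0 := M2.form σ (lam + M.d, M.c) with hh0def
  have hreal0 : σ h0⁻¹ = h0⁻¹ := by
    rw [map_inv₀, hh, map_mul, map_add, hu.invol, hM.1.hc, add_comm]
  obtain ⟨ξ, hξ, hξ2⟩ := exists_real_sqrt (hu := hu) hreal0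
  set v0 : E × E := sc ξ (lam + M.d, M.c) with hv0
  have hform : M2.form σ v0 = 1 := by
    have : M2.form σ v0 = ξ * ξ * h0 := by
      simp only [hv0, hh0def, M2.form, sc, map_mul, hξ]; ring
    rw [this, hξ2, inv_mul_cancel₀ hh0]
  have heig : M.app v0 = sc lam v0 := by
    have e : M.app (lam + M.d, M.c) = sc lam (lam + M.d, M.c) := by
      ext <;> simp only [M2.app, sc]
      · linear_combination hM.1.det - hroot + (lam * M.a + 1) * h2
      · linear_combination M.c * M.d * h2
    rw [hv0, M2.app_sc, e, sc_sc, sc_sc, mul_comm]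
  have heigT : ∀ g ∈ T, ∃ N, Ind C g N ∧ ∃ ζ, ζ * σ ζ = 1 ∧ N.app v0 = sc ζ v0 := by
    intro g hg
    have hg' : (⟨g, hg⟩ : T) ∈ Submonoid.powers (⟨τ, hτ⟩ : T) :=
      mem_powers_iff_mem_zpowers.2 (hgen _)
    obtain ⟨n, hn⟩ := hg'
    have hn' : τ ^ n = g := congrArg Subtype.val hn
    obtain ⟨N, hN', hv⟩ := hpowInd n
    refine ⟨N, hn' ▸ hN', lam ^ n, by rw [map_pow, ← mul_pow, hsl, one_pow], ?_⟩
    rw [hv]
    clear hN' hv hn hn'
    induction n with
    | zero => simp [sc]
    | succ n ih => rw [Function.iterate_succ_apply', ih, M2.app_sc, heig, sc_sc, pow_succ]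
  choose N hN' ζ hζ hζv using fun g : T => heigT g g.2
  have hinj : Function.Injective fun g : T => (⟨ζ g, hζ g⟩ : {ζ : E | ζ * σ ζ = 1}) := by
    intro g g' e
    have e' : ζ g = ζ g' := congrArg Subtype.val e
    have hfix : ((N g').adj.comp (N g)).app v0 = v0 := by
      rw [M2.app_comp, hζv g, e', ← hζv g', ← M2.app_comp, M2.adj_comp (hN' g').1, M2.app_one]
    have h1 := M2.eq_one_of_fix ((hN' g').1.adj.comp (hN' g).1) (by rw [hform]; exact one_ne_zero) hfix
    have := Ind.inj C hC hL (mul_mem (inv_mem (hTS g'.2)) (hTS g.2))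
      (h1 ▸ ((hN' g').inv C).mul C (hN' g))
    exact Subtype.ext (inv_mul_eq_one.1 this).symm
  have hsurj := (hinj.bijective_of_nat_card_le (by
    rw [Nat.card_coe_set_eq, hTcard, ← C.q_eq]; exact ncard_norm_one hu)).2
  refine ⟨⟨pt C u1, T, v0, hoff, hTS, hform, hTline, hTw, heigT, fun x hx => ?_⟩⟩
  obtain ⟨g, hg⟩ := hsurj ⟨x, hx⟩
  refine ⟨g, g.2, N g, hN' g, ?_⟩
  rw [hζv g, show ζ g = x from congrArg Subtype.val hg]

end Cfsg.Agent.RankOneClass.Recog
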