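import Cfsg.Agent.RankOneClass.Recog.Coord
import Cfsg.Agent.MinIndexPSU3.Quadratic

/-!
The group generated by `Z` and `t` as real `2 × 2` matrices of determinant one, through its action on
the base line.
-/

set_option autoImplicit false
set_option linter.unusedSectionVars false

open Subgroup MulAction

namespace Cfsg.Agent.RankOneClass.Recog

open Cfsg.Agent.RankOne AutPSU PSU3Sylow

universe u v

/-- A `2 × 2` matrix. -/
@[ext]
structure M2 (E : Type) where
  a : E
  b : E
  c : E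
  d : E

namespace M2

variable {E : Type} [Field E] [CharP E 2] {σ : E →+* E} {q : ℕ}

/-- The matrix applied to a pair. -/
def app (M : M2 E) (v : E × E) : E × E := (M.a * v.1 + M.b * v.2, M.c * v.1 + M.d * v.2)

/-- The product. -/
def comp (M N : M2 E) : M2 E :=
  ⟨M.a * N.a + M.b * N.c, M.a * N.b + M.b * N.d, M.c * N.a + M.d * N.c, M.c * N.b + M.d * N.d⟩

/-- The unit. -/
def one : M2 E := ⟨1, 0, 0, 1⟩

/-- The adjugate. -/
def adj (M : M2 E) : M2 E := ⟨M.d, M.b, M.c, M.a⟩

theorem app_comp (M N : M2 E) (v : E × E) : (M.comp N).app v = M.app (N.app v) := by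
  ext <;> simp [app, comp] <;> ring

theorem app_one (v : E × E) : (one : M2 E).app v = v := by simp [app, one]

/-- Real of determinant one. -/
structure Good (σ : E →+* E) (M : M2 E) : Prop where
  ha : σ M.a = M.a
  hb : σ M.b = M.b
  hc : σ M.c = M.c
  hd : σ M.d = M.d
  det : M.a * M.d + M.b * M.c = 1

theorem good_one : Good σ (one : M2 E) := ⟨by simp [one], by simp [one], by simp [one], by simp [one],
  by simp [one]⟩

theorem Good.comp {M N : M2 E} (hM : Good σ M) (hN : Good σ N) : Good σ (M.comp N) := by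
  refine ⟨?_, ?_, ?_, ?_, ?_⟩ <;>
    simp only [M2.comp, map_add, map_mul, hM.ha, hM.hb, hM.hc, hM.hd, hN.ha, hN.hb, hN.hc, hN.hd]
  linear_combination (N.a * N.d + N.b * N.c) * hM.det + hN.det +
    (M.a * N.a * M.c * N.b + M.b * N.c * M.d * N.d) * (CharTwo.two_eq_zero : (2 : E) = 0)

theorem Good.adj {M : M2 E} (hM : Good σ M) : Good σ M.adj :=
  ⟨hM.hd, hM.hb, hM.hc, hM.ha, by show M.d * M.a + M.b * M.c = 1; linear_combination hM.det⟩

theorem adj_comp {M : M2 E} (hM : Good σ M) : M.adj.comp M = one := by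
  ext <;> simp only [M2.comp, M2.adj, one]
  · linear_combination hM.det
  · linear_combination (M.b * M.d) * (CharTwo.two_eq_zero : (2 : E) = 0)
  · linear_combination (M.a * M.c) * (CharTwo.two_eq_zero : (2 : E) = 0)
  · linear_combination hM.det

theorem comp_adj {M : M2 E} (hM : Good σ M) : M.comp M.adj = one := by
  ext <;> simp only [M2.comp, M2.adj, one]
  · linear_combination hM.det
  · linear_combination (M.a * M.b) * (CharTwo.two_eq_zero : (2 : E) = 0)
  · linear_combination (M.c * M.d) * (CharTwo.two_eq_zero : (2 : E) = 0)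
  · linear_combination hM.det

/-- The form. -/
def form (σ : E →+* E) (v : E × E) : E := v.1 * σ v.2 + σ v.1 * v.2

theorem form_app {M : M2 E} (hM : Good σ M) (v : E × E) : form σ (M.app v) = form σ v := by
  simp only [form, app, map_add, map_mul, hM.ha, hM.hb, hM.hc, hM.hd]
  linear_combination (v.1 * σ v.2 + σ v.1 * v.2) * hM.det +
    (M.a * M.c * v.1 * σ v.1 + M.b * M.d * v.2 * σ v.2) * (CharTwo.two_eq_zero : (2 : E) = 0)

/-- A real matrix fixing a non-real vector is the identity. -/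
theorem eq_one_of_fix {M : M2 E} (hM : Good σ M) {v : E × E} (hv : form σ v ≠ 0) (h : M.app v = v) :
    M = one := by
  have h1 := congrArg Prod.fst h
  have h2 := congrArg Prod.snd h
  simp only [app] at h1 h2
  have h1' := congrArg σ h1
  have h2' := congrArg σ h2
  simp only [map_add, map_mul, hM.ha, hM.hb, hM.hc, hM.hd] at h1' h2'
  have k : ∀ {x y : E}, x * v.1 + y * v.2 = 0 → x * σ v.1 + y * σ v.2 = 0 → x = 0 ∧ y = 0 := by
    intro x y e e'
    constructor
    · refine (mul_eq_zero.1 ?_).resolve_right hv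
      simp only [form]
      linear_combination σ v.2 * e + v.2 * e' - (y * v.2 * σ v.2) * (CharTwo.two_eq_zero : (2 : E) = 0)
    · refine (mul_eq_zero.1 ?_).resolve_right hv
      simp only [form]
      linear_combination σ v.1 * e + v.1 * e' - (x * v.1 * σ v.1) * (CharTwo.two_eq_zero : (2 : E) = 0)
  obtain ⟨ea, eb⟩ := k (x := M.a - 1) (y := M.b) (by linear_combination h1) (by linear_combination h1')
  obtain ⟨ec, ed⟩ := k (x := M.c) (y := M.d - 1) (by linear_combination h2) (by linear_combination h2')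
  exact M2.ext (sub_eq_zero.1 ea) eb ec (sub_eq_zero.1 ed)

end M2

section Rep

variable {G : Type u} {Ω : Type v} [Group G] [Finite G] [MulAction G Ω] {a : Ω} {t : G} {Q : Subgroup G}
  {E : Type} [Field E] [CharP E 2] {σ : E →+* E} {q : ℕ} {hu : UCtx σ q}
  (C : QCoord G a t Q hu)

/-- The point of the base line of a vector. -/
noncomputable def lp (v : E × E) : Ω :=
  letI := Classical.propDecidable (v.2 = 0)
  if v.2 = 0 then a else pt C (zel hu (v.1 / v.2))

/-- A real non-zero vector. -/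
def IsRV (σ : E →+* E) (v : E × E) : Prop := σ v.1 = v.1 ∧ σ v.2 = v.2 ∧ v ≠ 0

theorem IsRV.app {M : M2 E} (hM : M.Good σ) {v : E × E} (hv : IsRV σ v) : IsRV σ (M.app v) := by
  refine ⟨?_, ?_, fun h0 => hv.2.2 ?_⟩
  · simp [M2.app, hM.ha, hM.hb, hv.1, hv.2.1]
  · simp [M2.app, hM.hc, hM.hd, hv.1, hv.2.1]
  · have := congrArg M.adj.app h0
    rw [← M2.app_comp, M2.adj_comp hM, M2.app_one] at this
    simpa [M2.app, Prod.mk_zero_zero] using this

/-- A group element inducing a matrix on the base line. -/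
def Ind (g : G) (M : M2 E) : Prop :=
  M.Good σ ∧ ∀ v : E × E, IsRV σ v → g • lp C v = lp C (M.app v)

theorem lp_top {x : E} : lp C (x, 0) = a := by simp [lp]

theorem lp_aff {x y : E} (hy : y ≠ 0) : lp C (x, y) = pt C (zel hu (x / y)) := by simp [lp, hy]

theorem Ind.mul {g h : G} {M N : M2 E} (hg : Ind C g M) (hh : Ind C h N) :
    Ind C (g * h) (M.comp N) :=
  ⟨hg.1.comp hh.1, fun v hv => by rw [mul_smul, hh.2 v hv, hg.2 _ (hv.app hh.1), M2.app_comp]⟩

theorem Ind.inv {g : G} {M : M2 E} (hg : Ind C g M) : Ind C g⁻¹ M.adj :=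
  ⟨hg.1.adj, fun v hv => by
    rw [inv_smul_eq_iff, hg.2 _ (hv.app hg.1.adj), ← M2.app_comp, M2.comp_adj hg.1, M2.app_one]⟩

theorem ind_one : Ind C (1 : G) M2.one :=
  ⟨M2.good_one, fun v _ => by rw [one_smul, M2.app_one]⟩

theorem ind_zel (hC : Ctx G Ω a t Q) {c : E} (hc : σ c = c) :
    Ind C (elt C (zel hu c)) ⟨1, c, 0, 1⟩ := by
  refine ⟨⟨map_one σ, hc, map_zero σ, map_one σ, by simp⟩, fun ⟨x, y⟩ ⟨hx, hy, _⟩ => ?_⟩
  simp only [M2.app, one_mul, zero_mul, zero_add]
  by_cases h0 : y = 0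
  · subst h0
    rw [mul_zero, add_zero, lp_top, smul_a_of_mem_Q hC.setup (elt_mem C _)]
  · simp only at hx hy
    rw [lp_aff C h0, lp_aff C h0, smul_pt]
    congr 1
    have hxy : σ (x / y) = x / y := by rw [map_div₀, hx, hy]
    have hs : σ ((x + c * y) / y) = (x + c * y) / y := by rw [map_div₀, map_add, map_mul, hx, hy, hc]
    refine Heis.ext ?_ ?_
    · simp [zel_x]
    · rw [(zel_mul hc _).2, zel_d hxy, zel_d hs]; field_simp; ring

theorem ind_t (hC : Ctx G Ω a t Q) (hN : Normed C) : Ind C t ⟨0, 1, 1, 0⟩ := by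
  refine ⟨⟨map_zero σ, map_one σ, map_one σ, map_zero σ, by simp⟩, fun ⟨x, y⟩ ⟨hx, hy, hne⟩ => ?_⟩
  simp only [M2.app, one_mul, zero_mul, zero_add, add_zero]
  simp only at hx hy
  by_cases h0 : y = 0
  · subst h0
    have hx0 : x ≠ 0 := fun e => hne (by simp [e])
    rw [lp_top, lp_aff C hx0, zero_div, zel_zero, pt_one]
  · by_cases hx0 : x = 0
    · subst hx0
      rw [lp_top, lp_aff C h0, zero_div, zel_zero, pt_one, t_smul_smul hC.setup]
    · rw [lp_aff C h0, lp_aff C hx0, hN _ (by rw [map_div₀, hx, hy]) (div_ne_zero hx0 h0), inv_div]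

theorem exists_ind (hC : Ctx G Ω a t Q) (hN : Normed C) {g : G} (hg : g ∈ sigGrp G a t) :
    ∃ M, Ind C g M := by
  let S : Subgroup G :=
    { carrier := {g | ∃ M, Ind C g M}
      one_mem' := ⟨_, ind_one C⟩
      mul_mem' := fun ⟨M, hM⟩ ⟨N, hN⟩ => ⟨_, hM.mul C hN⟩
      inv_mem' := fun ⟨M, hM⟩ => ⟨_, hM.inv C⟩ }
  refine (sup_le (fun z hz => ?_) ((closure_le S).2 ?_) : sigGrp G a t ≤ S) hg
  · obtain ⟨c, hc, rfl⟩ := exists_zel C hC hz
    exact ⟨_, ind_zel C hC hc⟩
  · rintro x rfl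
    exact ⟨_, ind_t C hC hN⟩

theorem Ind.eq_one (hC : Ctx G Ω a t Q) {M : M2 E} (hM : Ind C (1 : G) M) : M = M2.one := by
  obtain ⟨hG, hM⟩ := hM
  have h10 := hM (1, 0) ⟨map_one σ, map_zero σ, by simp⟩
  rw [one_smul, lp_top] at h10
  simp only [M2.app, mul_one, mul_zero, add_zero] at h10
  have hc : M.c = 0 := by
    by_contra h
    rw [lp_aff C h] at h10
    exact pt_ne C hC _ h10.symm
  have hd : M.d ≠ 0 := fun e => by simpa [hc, e] using hG.det
  have aff : ∀ x : E, σ x = x → (M.a * x + M.b) / M.d = x := by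
    intro x hx
    have h := hM (x, 1) ⟨hx, map_one σ, by simp⟩
    rw [one_smul, lp_aff C one_ne_zero, div_one] at h
    simp only [M2.app, mul_one, hc, zero_mul, zero_add] at h
    rw [lp_aff C hd] at h
    have e := congrArg Heis.d (pt_inj C hC h)
    rw [zel_d hx, zel_d (by rw [map_div₀, map_add, map_mul, hG.ha, hG.hb, hG.hd, hx])] at e
    exact e.symm
  have hb : M.b = 0 := by
    have h := aff 0 (map_zero σ)
    rwa [mul_zero, zero_add, div_eq_zero_iff, or_iff_left hd] at h
  have had : M.a = M.d := by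
    have h := aff 1 (map_one σ)
    rwa [mul_one, hb, add_zero, div_eq_one_iff_eq hd] at h
  have ha1 : M.a = 1 := by
    have h := hG.det
    rw [hb, zero_mul, add_zero, ← had] at h
    refine sub_eq_zero.1 ((mul_self_eq_zero (a := M.a - 1)).1 ?_)
    linear_combination h + (1 - M.a) * (CharTwo.two_eq_zero : (2 : E) = 0)
  exact M2.ext ha1 hb hc (had ▸ ha1)

theorem Ind.unique (hC : Ctx G Ω a t Q) {g : G} {M N : M2 E} (hM : Ind C g M) (hN : Ind C g N) :
    M = N := by
  have h := (hN.inv C).mul C hM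
  rw [inv_mul_cancel] at h
  have h1 := h.eq_one C hC
  have : (N.comp (N.adj.comp M)) = N.comp M2.one := by rw [h1]
  rw [show N.comp (N.adj.comp M) = (N.comp N.adj).comp M by ext <;> simp [M2.comp] <;> ring,
    M2.comp_adj hN.1] at this
  simp [M2.comp, M2.one] at this
  exact M2.ext this.1 this.2.1 this.2.2.1 this.2.2.2

theorem mem_line0 (hC : Ctx G Ω a t Q) {p : Ω} (hp : p ∈ line0 G a t) :
    ∃ v : E × E, IsRV σ v ∧ lp C v = p := by
  rcases hp with rfl | ⟨z, hz, rfl⟩
  · exact ⟨(1, 0), ⟨map_one σ, map_zero σ, by simp⟩, lp_top C⟩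
  · obtain ⟨c, hc, rfl⟩ := exists_zel C hC hz
    exact ⟨(c, 1), ⟨hc, map_one σ, by simp⟩, by rw [lp_aff C one_ne_zero, div_one]; rfl⟩

theorem Ind.inj (hC : Ctx G Ω a t Q) (hL : Lines G a t Q) {g : G} (hg : g ∈ sigGrp G a t)
    (h : Ind C g M2.one) : g = 1 := by
  refine hL.sig_faithful g hg fun p hp => ?_
  obtain ⟨v, hv, rfl⟩ := mem_line0 C hC hp
  rw [h.2 v hv, M2.app_one]

end Rep

end Cfsg.Agent.RankOneClass.Recog
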