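import Cfsg.Agent.RankOneClass.Recog.Frame
import Cfsg.Agent.RankOneClass.Recog.Field

/-!
The points off the base line as vectors, and the formula for `t`.
-/

set_option autoImplicit false
set_option linter.unusedSectionVars false

open Subgroup MulAction
open scoped Pointwise

namespace Cfsg.Agent.RankOneClass.Recog

open Cfsg.Agent.RankOne AutPSU PSU3Sylow

universe u v

variable {G : Type u} {Ω : Type v} [Group G] [Finite G] [MulAction G Ω] {a : Ω} {t : G} {Q : Subgroup G}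
  {E : Type} [Field E] [CharP E 2] [Fintype E] {σ : E →+* E} {q : ℕ} {hu : UCtx σ q}
  (C : QCoord G a t Q hu) (B : Base0 C)

/-- The vector of a point. -/
def IsTh (p : Ω) (v : E × E) : Prop :=
  ∃ g ∈ sigGrp G a t, ∃ M, Ind C g M ∧ g • B.p0 = p ∧ v = M.app B.v0

variable {C B}

theorem IsTh.form {p : Ω} {v : E × E} (h : IsTh C B p v) : M2.form σ v = 1 := by
  obtain ⟨g, -, M, hM, -, rfl⟩ := h
  rw [M2.form_app hM.1, B.form_v0]

theorem IsTh.smul {p : Ω} {v : E × E} (h : IsTh C B p v) {g : G} (hg : g ∈ sigGrp G a t) {N : M2 E}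
    (hN : Ind C g N) : IsTh C B (g • p) (N.app v) := by
  obtain ⟨g', hg', M, hM, rfl, rfl⟩ := h
  exact ⟨g * g', mul_mem hg hg', _, hN.mul C hM, mul_smul _ _ _, (M2.app_comp _ _ _).symm⟩

section

variable (hC : Ctx G Ω a t Q) (hL : Lines G a t Q)
include hC hL

theorem exists_isTh (hN : Normed C) {p : Ω} (hp : p ∉ line0 G a t) : ∃ v, IsTh C B p v := by
  obtain ⟨g, hg, rfl⟩ := hL.sig_trans _ _ B.off hp
  obtain ⟨M, hM⟩ := exists_ind C hC hN hg
  exact ⟨_, g, hg, M, hM, rfl, rfl⟩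

theorem IsTh.unique {p : Ω} {v v' : E × E} (h : IsTh C B p v) (h' : IsTh C B p v') : v = v' := by
  obtain ⟨g, hg, M, hM, hgp, rfl⟩ := h
  obtain ⟨g', hg', M', hM', hgp', rfl⟩ := h'
  have h1 : g'⁻¹ * g = 1 := hL.sig_free _ (mul_mem (inv_mem hg') hg) _ B.off
    (by rw [mul_smul, hgp, ← hgp', inv_smul_smul])
  have e : g = g' := (inv_mul_eq_one.1 h1).symm
  subst e
  rw [hM.unique C hC hM']

theorem IsTh.inj {p p' : Ω} {v : E × E} (h : IsTh C B p v) (h' : IsTh C B p' v) : p = p' := by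
  obtain ⟨g, hg, M, hM, rfl, rfl⟩ := h
  obtain ⟨g', hg', M', hM', rfl, hv⟩ := h'
  have hfix : (M'.adj.comp M).app B.v0 = B.v0 := by
    rw [M2.app_comp, hv, ← M2.app_comp, M2.adj_comp hM'.1, M2.app_one]
  have h1 := M2.eq_one_of_fix (hM'.1.adj.comp hM.1) (by rw [B.form_v0]; exact one_ne_zero) hfix
  have := Ind.inj C hC hL (mul_mem (inv_mem hg') hg) (h1 ▸ (hM'.inv C).mul C hM)
  rw [inv_mul_eq_one.1 this]

theorem sig_smul_mem {g : G} (hg : g ∈ sigGrp G a t) (p : Ω) :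
    g • p ∈ line0 G a t ↔ p ∈ line0 G a t := by
  conv_lhs => rw [← hL.sig_line g hg]
  exact Set.smul_mem_smul_set_iff

/-- The points of a translate of the base line through `a` have constant first coordinate. -/
theorem exists_const_x {g : G} (ha : a ∈ g • line0 G a t) :
    ∃ x₁ : E, ∀ p ∈ g • line0 G a t, p = a ∨ ∃ u : Heis hu, p = pt C u ∧ u.x = x₁ := by
  obtain ⟨y, hy, hya⟩ := ha
  have hga : g • y = a := hya
  obtain ⟨s, hs, hsy⟩ : ∃ s ∈ sigGrp G a t, s • a = y := by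
    rcases hy with rfl | ⟨z, hz, rfl⟩
    · exact ⟨1, one_mem _, one_smul _ _⟩
    · exact ⟨z * t, mul_mem (mem_sup_left hz) (mem_sup_right (subset_closure rfl)), mul_smul _ _ _⟩
  have hfix : g * s ∈ stabilizer G a := by
    rw [MulAction.mem_stabilizer_iff, mul_smul, hsy, hga]
  obtain ⟨x, hx, d, hd, e⟩ := stabilizer_split hC.setup hfix
  refine ⟨(C.toHeis ⟨x, hx⟩).x, fun p hp => ?_⟩
  obtain ⟨y', hy', rfl⟩ := hp
  have hy'' : s⁻¹ • y' ∈ line0 G a t := (sig_smul_mem hC hL (inv_mem hs) y').2 hy'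
  have hp' : g • y' = x • d • (s⁻¹ • y') := by
    rw [smul_smul, smul_smul, ← e, mul_inv_cancel_right]
  show g • y' = a ∨ _
  rcases hy'' with h | ⟨z, hz, h⟩
  · left
    rw [hp', h, (mem_twoPt.1 hd).1]
    exact smul_a_of_mem_Q hC.setup hx
  · right
    obtain ⟨c, hc, hz'⟩ := exists_zel C hC (hC.conj_mem_zGrp (twoPt_le hd) hz)
    refine ⟨C.toHeis ⟨x, hx⟩ * zel hu c, ?_, by rw [Heis.mul_x, zel_x, add_zero]⟩
    show g • y' = _
    rw [hp', ← smul_pt, elt_toHeis, ← h]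
    congr 1
    show d • z • (t • a) = pt C (zel hu c)
    rw [pt, ← hz', mul_smul, mul_smul, inv_smul_eq_iff.2 (mem_twoPt.1 hd).2.symm]

end

variable (C B)

/-- The vector of the point of `u`. -/
noncomputable def th (u : Heis hu) : E × E := Classical.epsilon (IsTh C B (pt C u))

/-- The inverse of the second coordinate. -/
noncomputable def nu (u : Heis hu) : E := ((th C B u).2)⁻¹

/-- The ratio of the coordinates. -/
noncomputable def dv (u : Heis hu) : E := (th C B u).1 / (th C B u).2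

/-- A lift of a first coordinate. -/
noncomputable def lift (hu : UCtx σ q) (x : E) : Heis hu := Classical.choose (Heis.exists_lift (hu := hu) x)

theorem lift_x (x : E) : (lift hu x).x = x := Classical.choose_spec (Heis.exists_lift (hu := hu) x)

/-- `nu` as a function of the first coordinate. -/
noncomputable def nuX (x : E) : E := nu C B (lift hu x)

/-- The offset of the second coordinate. -/
noncomputable def gX (x : E) : E := dv C B (lift hu x) + (lift hu x).d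

variable {C B}

section

variable (hC : Ctx G Ω a t Q) (hL : Lines G a t Q) (hN : Normed C)
include hC hL hN

theorem off {u : Heis hu} (h : u.x ≠ 0) : pt C u ∉ line0 G a t := fun hm =>
  h ((mem_line0_iff C hC u).1 hm)

theorem th_spec {u : Heis hu} (h : u.x ≠ 0) : IsTh C B (pt C u) (th C B u) :=
  Classical.epsilon_spec (exists_isTh hC hL hN (off hC hL hN h))

theorem th_eq {u : Heis hu} (h : u.x ≠ 0) {v : E × E} (hv : IsTh C B (pt C u) v) : th C B u = v :=
  (th_spec hC hL hN h).unique hC hL hv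

theorem th_snd {u : Heis hu} (h : u.x ≠ 0) : (th C B u).2 ≠ 0 := fun e => by
  have := (th_spec (B := B) hC hL hN h).form
  simp [M2.form, e] at this

theorem dv_trace {u : Heis hu} (h : u.x ≠ 0) :
    dv C B u + σ (dv C B u) = nu C B u * σ (nu C B u) := by
  have hf := (th_spec (B := B) hC hL hN h).form
  have h0 := th_snd (B := B) hC hL hN h
  have h0' : σ (th C B u).2 ≠ 0 := (map_ne_zero σ).2 h0
  simp only [dv, nu, map_div₀, map_inv₀]
  simp only [M2.form] at hf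
  field_simp
  linear_combination hf

theorem zel_move {u : Heis hu} (h : u.x ≠ 0) {c : E} (hc : σ c = c) :
    dv C B (zel hu c * u) = dv C B u + c ∧ nu C B (zel hu c * u) = nu C B u := by
  have hx : (zel hu c * u).x ≠ 0 := by rwa [(zel_mul hc u).1]
  have hth := th_eq (B := B) hC hL hN hx
    (v := (⟨1, c, 0, 1⟩ : M2 E).app (th C B u)) (by
      rw [← smul_pt]
      exact (th_spec hC hL hN h).smul (mem_sup_left (zel_mem C hC c)) (ind_zel C hC hc))
  have h0 := th_snd (B := B) hC hL hN h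
  constructor
  · rw [dv, dv, hth]
    simp only [M2.app, one_mul, zero_mul, zero_add]
    field_simp
  · rw [nu, nu, hth]; simp [M2.app]

theorem of_lift (u : Heis hu) (h : u.x ≠ 0) :
    nu C B u = nuX C B u.x ∧ dv C B u = u.d + gX C B u.x := by
  set l := lift hu u.x with hl
  have hlx : l.x = u.x := lift_x u.x
  have hc : σ (u.d + l.d) = u.d + l.d := by
    have e : u.d + σ u.d = l.d + σ l.d := by rw [u.cond, l.cond, hlx]
    rw [map_add]
    linear_combination e + (σ l.d - u.d) * (CharTwo.two_eq_zero : (2 : E) = 0)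
  have hu' : u = zel hu (u.d + l.d) * l := by
    refine Heis.ext (by rw [(zel_mul hc l).1, hlx]) ?_
    rw [(zel_mul hc l).2]
    linear_combination -l.d * (CharTwo.two_eq_zero : (2 : E) = 0)
  obtain ⟨h1, h2⟩ := zel_move (B := B) hC hL hN (u := l) (by rwa [hlx]) hc
  rw [← hu'] at h1 h2
  refine ⟨by rw [h2]; rfl, ?_⟩
  rw [h1, gX, ← hl]; ring

theorem nuX_ne {x : E} (h : x ≠ 0) : nuX C B x ≠ 0 :=
  inv_ne_zero (th_snd hC hL hN (by rwa [lift_x]))

theorem trace_gX {x : E} (h : x ≠ 0) :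
    gX C B x + σ (gX C B x) = nuX C B x * σ (nuX C B x) + x * σ x := by
  have e := dv_trace (B := B) hC hL hN (u := lift hu x) (by rwa [lift_x])
  have e2 := (lift hu x).cond
  rw [lift_x] at e2
  rw [gX, nuX, map_add]
  linear_combination e + e2

theorem k_move {l x : E} (hl : σ l = l) (hl0 : l ≠ 0) (hx : x ≠ 0) :
    nuX C B (l * x) = l * nuX C B x ∧ gX C B (l * x) = l * l * gX C B x := by
  obtain ⟨k, hk, hkl⟩ := C.chi_K_surj l hl0 hl
  have hks := kGrp_le_sig hC hL.link_mem hk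
  have hInd : Ind C k ⟨l, 0, 0, l⁻¹⟩ := by
    refine ⟨⟨hl, map_zero σ, map_zero σ, by rw [map_inv₀, hl],
      by simp [hl0]⟩, fun v hv => ?_⟩
    simp only [M2.app, zero_mul, add_zero, zero_add]
    by_cases h0 : v.2 = 0
    · rw [show v = (v.1, v.2) from rfl, h0, mul_zero, lp_top, lp_top]
      exact (mem_twoPt.1 (Ctx.kGrp_le G a t hk)).1
    · rw [show v = (v.1, v.2) from rfl, lp_aff C h0, lp_aff C (mul_ne_zero (inv_ne_zero hl0) h0),
        k_smul_zel C hC hk (by rw [map_div₀, hv.1, hv.2.1]), hkl]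
      congr 2
      field_simp
  set u := lift hu x
  have hux : u.x ≠ 0 := by rwa [lift_x]
  have hax : (act (hu := hu) l u).x = l * x := by show l * u.x = _; rw [lift_x]
  have h0' : (act (hu := hu) l u).x ≠ 0 := by rw [hax]; exact mul_ne_zero hl0 hx
  have hth := th_eq (B := B) hC hL hN h0' (v := (⟨l, 0, 0, l⁻¹⟩ : M2 E).app (th C B u)) (by
    rw [← hkl, ← kw_smul_pt C hC (mem_sup_left hk), hkl]
    exact (th_spec hC hL hN hux).smul hks hInd)
  obtain ⟨e1, e2⟩ := of_lift (B := B) hC hL hN _ h0'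
  rw [hax, nu, hth] at e1
  rw [hax, dv, hth] at e2
  simp only [M2.app, zero_mul, add_zero, zero_add] at e1 e2
  have h2 := th_snd (B := B) hC hL hN hux
  refine ⟨?_, ?_⟩
  · rw [← e1, nuX, nu, mul_inv, inv_inv]
  · have hd : (act (hu := hu) l u).d = l * l * u.d := by show l * σ l * u.d = _; rw [hl]
    rw [hd] at e2
    conv_rhs => rw [gX, dv]
    have e3 : l * (th C B u).1 / (l⁻¹ * (th C B u).2) = l * l * ((th C B u).1 / (th C B u).2) := by
      field_simp
    rw [e3] at e2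
    linear_combination -e2 - l * l * u.d * (CharTwo.two_eq_zero : (2 : E) = 0)

theorem w_move {w : G} (hw : w ∈ wGrp G a t) :
    ∃ ζ : E, ζ ≠ 0 ∧ ∀ x : E, x ≠ 0 →
      nuX C B (C.chi w * x) = ζ * nuX C B x ∧ gX C B (C.chi w * x) = gX C B x := by
  obtain ⟨g, hgT, hgw⟩ := B.wmem w hw
  obtain ⟨M, hM, ζ, hζ, hMv⟩ := B.eig g hgT
  have hζ0 : ζ ≠ 0 := fun e => by simp [e] at hζ
  refine ⟨ζ⁻¹, inv_ne_zero hζ0, fun x hx => ?_⟩
  have hwd : w ∈ kGrp G a t ⊔ wGrp G a t := mem_sup_right hw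
  set u := lift hu x
  have hux : u.x ≠ 0 := by rwa [lift_x]
  have hax : (act (hu := hu) (C.chi w) u).x = C.chi w * x := by show C.chi w * u.x = _; rw [lift_x]
  have h0' : (act (hu := hu) (C.chi w) u).x ≠ 0 := by
    rw [hax]; exact mul_ne_zero (chi_ne_zero C hwd) hx
  have hth := th_eq (B := B) hC hL hN h0' (v := sc ζ (th C B u)) (by
    rw [← kw_smul_pt C hC hwd]
    obtain ⟨g', hg', N, hN', hgp, hv⟩ := th_spec (B := B) hC hL hN hux
    refine ⟨g' * g, mul_mem hg' (B.le hgT), _, hN'.mul C hM, ?_, ?_⟩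
    · rw [mul_smul, hgw, ← hgp, smul_smul, smul_smul, (hL.sig_comm g' hg' w hw).eq]
    · rw [M2.app_comp, hMv, M2.app_sc, hv])
  obtain ⟨e1, e2⟩ := of_lift (B := B) hC hL hN _ h0'
  rw [hax, nu, hth] at e1
  rw [hax, dv, hth] at e2
  simp only [sc] at e1 e2
  refine ⟨?_, ?_⟩
  · rw [← e1, nuX, nu, mul_inv]
  · have hd : (act (hu := hu) (C.chi w) u).d = u.d := by
      show C.chi w * σ (C.chi w) * u.d = _; rw [C.chi_W w hw, one_mul]
    rw [hd, mul_div_mul_left _ _ hζ0] at e2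
    conv_rhs => rw [gX, dv]
    linear_combination -e2 - u.d * (CharTwo.two_eq_zero : (2 : E) = 0)

theorem t_move {u : Heis hu} (h : u.x ≠ 0) :
    ∃ u' : Heis hu, t • pt C u = pt C u' ∧ u'.x ≠ 0 ∧ dv C B u' = (dv C B u)⁻¹ ∧
      nu C B u' = nu C B u / dv C B u ∧ dv C B u ≠ 0 := by
  have htS : t ∈ sigGrp G a t := mem_sup_right (subset_closure rfl)
  have hoff : t • pt C u ∉ line0 G a t := fun hm =>
    off hC hL hN h ((sig_smul_mem hC hL htS _).1 hm)
  obtain ⟨u', hu'⟩ := pt_surj C hC (p := t • pt C u) (fun e => hoff (by rw [e]; exact Or.inl rfl))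
  have hx' : u'.x ≠ 0 := fun e => hoff (hu' ▸ (mem_line0_iff C hC u').2 e)
  have hth := th_eq (B := B) hC hL hN hx' (v := (⟨0, 1, 1, 0⟩ : M2 E).app (th C B u)) (by
    rw [hu']
    exact (th_spec hC hL hN h).smul htS (ind_t C hC hN))
  have h2 := th_snd (B := B) hC hL hN h
  have h2' := th_snd (B := B) hC hL hN hx'
  rw [hth] at h2'
  simp only [M2.app, one_mul, zero_mul, zero_add, add_zero] at hth h2'
  refine ⟨u', hu'.symm, hx', ?_, ?_, div_ne_zero h2' h2⟩
  · rw [dv, dv, hth, inv_div]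
  · rw [nu, nu, dv, hth]; field_simp

theorem equation {x₀ : E} (hx₀ : x₀ ≠ 0) :
    ∃ K, ∀ x : E, x ≠ 0 → x ≠ x₀ → nuX C B x * σ (nuX C B x) = nuX C B x₀ * σ (nuX C B x₀) →
      nuX C B (x₀ + x) = K * (x₀ * σ x₀ + σ x₀ * x + gX C B x + gX C B x₀ + gX C B (x₀ + x)) := by
  set u₀ := lift hu x₀ with hu₀
  have h0x : u₀.x ≠ 0 := by rwa [lift_x]
  obtain ⟨g₀, hg₀, M₀, hM₀, hgp₀, hv₀⟩ := th_spec (B := B) hC hL hN h0x
  obtain ⟨gl, hgl⟩ := B.line
  set h : G := t * (elt C u₀)⁻¹ * (g₀ * gl) with hh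
  have hmem : ∀ g ∈ B.T, (t * (elt C u₀)⁻¹) • ((g₀ * g) • B.p0) ∈ h • line0 G a t := by
    intro g hg
    have : g • B.p0 ∈ gl • line0 G a t := by rw [hgl]; exact ⟨g, hg, rfl⟩
    rw [hh, mul_smul (t * (elt C u₀)⁻¹), mul_smul g₀ gl, mul_smul g₀ g]
    exact Set.smul_mem_smul_set (Set.smul_mem_smul_set this)
  have ha : a ∈ h • line0 G a t := by
    have := hmem 1 (one_mem _)
    rwa [mul_one, hgp₀, show (t * (elt C u₀)⁻¹) • pt C u₀ = a by
      rw [mul_smul, ← elt_inv, smul_pt, inv_mul_cancel, pt_one, t_smul_smul hC.setup]] at this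
  obtain ⟨x₁, hx₁⟩ := exists_const_x (C := C) hC hL ha
  refine ⟨nuX C B x₁, fun x hx hne hnorm => ?_⟩
  have hcond : dv C B u₀ + gX C B x + σ (dv C B u₀ + gX C B x) = x * σ x := by
    have e1 := dv_trace (B := B) hC hL hN h0x
    have e2 := trace_gX (B := B) hC hL hN hx
    rw [show nu C B u₀ = nuX C B x₀ from rfl] at e1
    rw [map_add]
    linear_combination e1 + e2 + hnorm +
      (nuX C B x₀ * σ (nuX C B x₀)) * (CharTwo.two_eq_zero : (2 : E) = 0)
  set u : Heis hu := ⟨x, dv C B u₀ + gX C B x, hcond⟩ with hudef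
  have hux : u.x ≠ 0 := hx
  obtain ⟨e1, e2⟩ := of_lift (B := B) hC hL hN u hux
  have e2' : dv C B u = dv C B u₀ := by
    rw [e2]
    show dv C B u₀ + gX C B x + gX C B x = _
    rw [add_assoc, CharTwo.add_self_eq_zero, add_zero]
  set ζ : E := (th C B u).2 / (th C B u₀).2 with hζdef
  have hW := th_snd (B := B) hC hL hN hux
  have hW₀ := th_snd (B := B) hC hL hN h0x
  have hζv : th C B u = sc ζ (th C B u₀) := by
    refine Prod.ext ?_ ?_
    · show _ = ζ * _
      have e : (th C B u).1 / (th C B u).2 = (th C B u₀).1 / (th C B u₀).2 := e2'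
      rw [div_eq_div_iff hW hW₀] at e
      rw [hζdef]
      field_simp
      linear_combination e
    · show _ = ζ * _
      rw [hζdef, div_mul_cancel₀ _ hW₀]
  have hζ : ζ * σ ζ = 1 := by
    have f1 := (th_spec (B := B) hC hL hN hux).form
    have f0 := (th_spec (B := B) hC hL hN h0x).form
    rw [hζv] at f1
    simp only [M2.form, sc, map_mul] at f1 f0
    linear_combination f1 - (ζ * σ ζ) * f0
  obtain ⟨gT, hgT, MT, hMT, hMTv⟩ := B.circ ζ hζ
  have hpt : pt C u = (g₀ * gT) • B.p0 :=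
    (th_spec (B := B) hC hL hN hux).inj hC hL ⟨g₀ * gT, mul_mem hg₀ (B.le hgT), _,
      hM₀.mul C hMT, rfl, by rw [M2.app_comp, hMTv, M2.app_sc, ← hv₀, hζv]⟩
  have hin := hmem gT hgT
  rw [← hpt, show (t * (elt C u₀)⁻¹) • pt C u = t • pt C (u₀⁻¹ * u) by
    rw [mul_smul, ← elt_inv, smul_pt]] at hin
  set s := u₀⁻¹ * u with hs
  have hsx : s.x = x₀ + x := by rw [hs, Heis.mul_x, Heis.inv_x, lift_x]
  have hsx0 : s.x ≠ 0 := by
    rw [hsx]; exact fun e => hne (CharTwo.add_eq_zero.1 e).symm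
  obtain ⟨u', hu', hu'x, -, hnu, hD0⟩ := t_move (B := B) hC hL hN hsx0
  rw [hu'] at hin
  rcases hx₁ _ hin with h | ⟨u'', hu'', hx''⟩
  · exact absurd h (pt_ne C hC u')
  · have := pt_inj C hC hu''
    subst this
    obtain ⟨f1, -⟩ := of_lift (B := B) hC hL hN u' hu'x
    obtain ⟨g1, g2⟩ := of_lift (B := B) hC hL hN s hsx0
    rw [f1, hx'', g1, hsx, eq_div_iff hD0, g2, hsx] at hnu
    rw [← hnu]
    congr 1
    have hd : s.d = σ u₀.d + (dv C B u₀ + gX C B x) + σ x₀ * x := by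
      rw [hs, Heis.mul_d, Heis.inv_d, Heis.inv_x, lift_x]
    rw [hd, show gX C B x₀ = dv C B u₀ + u₀.d from rfl]
    have hc₀ := u₀.cond
    rw [lift_x] at hc₀
    linear_combination hc₀ - u₀.d * (CharTwo.two_eq_zero : (2 : E) = 0)

/-- The action of `t`. -/
theorem t_formula (B' : Base0 C) {u : Heis hu} (h : u ≠ 1) :
    t • pt C u = pt C (inversion u) := by
  by_cases hx : u.x = 0
  · obtain ⟨e, he⟩ := eq_zel hx
    have hd := d_ne_zero h
    rw [e, hN _ he hd, ← e]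
    congr 1
    refine Heis.ext (by simp [zel_x, hx]) ?_
    rw [zel_d (by rw [map_inv₀, he]), inversion_d, one_div]
  let U : Set E := C.chi '' (wGrp G a t : Set G)
  have hkw : ∀ w ∈ wGrp G a t, w ∈ kGrp G a t ⊔ wGrp G a t := fun w hw => mem_sup_right hw
  obtain ⟨w₁, hw₁, hw₁'⟩ : ∃ w ∈ wGrp G a t, w ≠ 1 := by
    by_contra hc
    push Not at hc
    have h3 := hL.w_three
    rw [Subgroup.eq_bot_iff_forall _ |>.2 hc, Subgroup.card_bot] at h3
    omega
  let μ : E → E := fun e => nuX C B' e / nuX C B' 1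
  have hμ : ∀ w ∈ wGrp G a t, ∀ x : E, x ≠ 0 →
      nuX C B' (C.chi w * x) = μ (C.chi w) * nuX C B' x ∧ gX C B' (C.chi w * x) = gX C B' x := by
    intro w hw x hx
    obtain ⟨ζ, -, hζ⟩ := w_move (B := B') hC hL hN hw
    refine ⟨?_, (hζ x hx).2⟩
    have e := (hζ 1 one_ne_zero).1
    rw [mul_one] at e
    rw [(hζ x hx).1]
    congr 1
    show ζ = nuX C B' (C.chi w) / nuX C B' 1
    rw [e, mul_div_cancel_right₀ _ (nuX_ne hC hL hN one_ne_zero)]
  have hsol := solve hu U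
    (by rintro _ ⟨w, hw, rfl⟩; exact C.chi_W w hw)
    (by rintro _ ⟨v, hv, rfl⟩ _ ⟨w, hw, rfl⟩
        exact ⟨v * w, mul_mem hv hw, C.chi_mul v (hkw v hv) w (hkw w hw)⟩)
    (by rintro _ ⟨w, hw, rfl⟩
        refine ⟨w⁻¹, inv_mem hw, mul_left_cancel₀ (chi_ne_zero C (hkw w hw)) ?_⟩
        rw [← C.chi_mul w (hkw w hw) w⁻¹ (hkw _ (inv_mem hw)), mul_inv_cancel, chi_one C, C.chi_W w hw])
    ⟨C.chi w₁, ⟨w₁, hw₁, rfl⟩, fun e => hw₁' (C.chi_inj w₁ (hkw _ hw₁) e)⟩
    μ
    (by rintro _ ⟨v, hv, rfl⟩ _ ⟨w, hw, rfl⟩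
        show nuX C B' (C.chi v * C.chi w) / _ = μ (C.chi v) * (nuX C B' (C.chi w) / _)
        rw [(hμ v hv _ (chi_ne_zero C (hkw w hw))).1, mul_div_assoc])
    (by rintro _ ⟨w, hw, rfl⟩
        exact div_ne_zero (nuX_ne hC hL hN (chi_ne_zero C (hkw w hw))) (nuX_ne hC hL hN one_ne_zero))
    (nuX C B') (gX C B')
    (fun l x hl hl0 hx => (k_move hC hL hN hl hl0 hx).1)
    (fun l x hl hl0 hx => (k_move hC hL hN hl hl0 hx).2)
    (by rintro _ ⟨w, hw, rfl⟩ x hx; exact (hμ w hw x hx).1)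
    (by rintro _ ⟨w, hw, rfl⟩ x hx; exact (hμ w hw x hx).2)
    (fun x hx => nuX_ne hC hL hN hx) (fun x hx => trace_gX hC hL hN hx)
    (fun x₀ hx₀ => equation hC hL hN hx₀)
  obtain ⟨u', hu', hx', hdv, hnu, hD0⟩ := t_move (B := B') hC hL hN hx
  rw [hu']
  congr 1
  obtain ⟨a1, a2⟩ := of_lift (B := B') hC hL hN u hx
  obtain ⟨b1, b2⟩ := of_lift (B := B') hC hL hN u' hx'
  have hc0 : ∀ c : E, c * σ c = 1 → c ≠ 0 := fun c hc e => by simp [e] at hc
  rcases hsol with ⟨c, hc, hs⟩ | ⟨c, hc, hs⟩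
  · rw [a2, b2, (hs _ hx).1, (hs _ hx').1, add_zero, add_zero] at hdv
    rw [a1, b1, a2, (hs _ hx).1, add_zero, (hs _ hx).2, (hs _ hx').2, mul_div_assoc] at hnu
    exact Heis.ext (mul_left_cancel₀ (hc0 c hc) hnu) (hdv.trans (one_div _).symm)
  · have ed : ∀ v : Heis hu, v.d + v.x * σ v.x = σ v.d := fun v => by
      linear_combination -v.cond + v.d * (CharTwo.two_eq_zero : (2 : E) = 0)
    rw [a2, b2, (hs _ hx).1, (hs _ hx').1, ed, ed, ← map_inv₀] at hdv
    have hdd : u'.d = u.d⁻¹ := σ.injective hdv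
    rw [a1, b1, a2, (hs _ hx).1, ed] at hnu
    have hnu' := congrArg σ hnu
    rw [map_div₀, hu.invol, (hs _ hx).2, (hs _ hx').2, mul_div_assoc] at hnu'
    exact Heis.ext (mul_left_cancel₀ (hc0 c hc) hnu') (hdd.trans (one_div _).symm)

end

end Cfsg.Agent.RankOneClass.Recog
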